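import Cfsg.Agent.BH.RZ.Defs
import Cfsg.Agent.TO.CovB
import Cfsg.Agent.TO.Can1
import Cfsg.Agent.S0964

/-!
# BH, box SA, part 1: covering along an injective homomorphism with normal image (helper77)
-/

set_option autoImplicit false
set_option linter.style.haveILetI false
set_option linter.unusedSectionVars false

namespace Cfsg.Agent.BH.RZ.SA

open Cfsg Cfsg.Agent Cfsg.Agent.TID.Red Cfsg.Agent.TO Cfsg.Agent.Blocks
open Cfsg.Agent.H592.Transport (tr tr_apply trSet mem_trSet tr_mem_trSet isPBlock_trSet tr_symm_tr tr_tr_symm)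

variable {K W : Type} [Group K] [Group W]

/-- an injective homomorphism with normal image -/
structure Emb (ι : K →* W) : Prop where
  inj : Function.Injective ι
  nor : ι.range.Normal

variable {ι : K →* W}

/-- the automorphisms induced by `W` -/
noncomputable def Emb.au (h : Emb ι) : W →* MulAut K :=
  haveI := h.nor
  (MulAut.congr (MonoidHom.ofInjective h.inj).symm).toMonoidHom.comp (MulAut.conjNormal : W →* MulAut ι.range)

theorem Emb.au_spec (h : Emb ι) (w : W) (k : K) : ι (h.au w k) = w * ι k * w⁻¹ := by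
  haveI := h.nor
  have h1 : ∀ y : ι.range, ι ((MonoidHom.ofInjective h.inj).symm y) = y := fun y =>
    congrArg Subtype.val ((MonoidHom.ofInjective h.inj).apply_symm_apply y)
  exact h1 _

theorem Emb.au_eq (h : Emb ι) {w : W} {k k' : K} (e : ι k' = w * ι k * w⁻¹) : h.au w k = k' :=
  h.inj (by rw [h.au_spec, e])

theorem Emb.au_self (h : Emb ι) (y : K) : h.au (ι y) = MulAut.conj y :=
  MulEquiv.ext fun k => h.au_eq (by simp)

/-- the restriction to a subgroup and its preimage -/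
def rs (ι : K →* W) {C : Subgroup K} {C' : Subgroup W} (h : ∀ k, ι k ∈ C' ↔ k ∈ C) : C →* C' :=
  (ι.comp C.subtype).codRestrict C' fun k => (h k).2 k.2

theorem rs_coe {C : Subgroup K} {C' : Subgroup W} (h : ∀ k, ι k ∈ C' ↔ k ∈ C) (k : C) :
    ((rs ι h k : C') : W) = ι k := rfl

theorem Emb.rs (h : Emb ι) {C : Subgroup K} {C' : Subgroup W} (hC : ∀ k, ι k ∈ C' ↔ k ∈ C) : Emb (rs ι hC) where
  inj := fun _ _ e => Subtype.ext (h.inj (congrArg Subtype.val e))
  nor := ⟨by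
    rintro _ ⟨k, rfl⟩ c
    refine ⟨⟨h.au c k, (hC _).1 ?_⟩, Subtype.ext (h.au_spec c k)⟩
    rw [h.au_spec]
    exact mul_mem (mul_mem c.2 ((hC _).2 k.2)) (inv_mem c.2)⟩

theorem Emb.ce (h : Emb ι) (Q : Subgroup K) (k : K) : ι k ∈ Ce (Q.map ι) ↔ k ∈ Ce Q :=
  Cov.mem_Ce_map ι h.inj

/-- the normalised sums over the `H`-invariant sets agree -/
def OV (ι : K →* W) (H : Subgroup W) (θ : K → ℂ) (Θ : W → ℂ) : Prop :=
  ∀ S : Set K, (∀ c ∈ H, ∀ x y : K, ι y = c * ι x * c⁻¹ → x ∈ S → y ∈ S) →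
    ∑ᶠ x ∈ S, Θ (ι x) / Θ 1 = ∑ᶠ x ∈ S, θ x / θ 1

theorem OV.of_eq {H : Subgroup W} {θ : K → ℂ} {Θ : W → ℂ} (h : ∀ k, Θ (ι k) = θ k) : OV ι H θ Θ := fun S _ => by
  simp only [h, ← h 1, map_one]

theorem OV.loc {H : Subgroup W} {θ : K → ℂ} {Θ : W → ℂ} (h : OV ι H θ Θ) {C : Subgroup K} {C' : Subgroup W}
    (hC : ∀ k, ι k ∈ C' ↔ k ∈ C) (hH : H ≤ C') : OV (rs ι hC) ⊤ (fun x => θ x) (fun x => Θ x) := by
  intro S hS
  have h1 := h (Subtype.val '' S) (by
    rintro c hc _ y e ⟨x, hx, rfl⟩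
    have hy : y ∈ C := (hC y).1 (by
      rw [e]
      exact mul_mem (mul_mem (hH hc) ((hC _).2 x.2)) (inv_mem (hH hc)))
    exact ⟨⟨y, hy⟩, hS ⟨c, hH hc⟩ (Subgroup.mem_top _) x ⟨y, hy⟩ (Subtype.ext e) hx, rfl⟩)
  rwa [finsum_mem_image Subtype.val_injective.injOn, finsum_mem_image Subtype.val_injective.injOn] at h1

theorem OV.conj (e : Emb ι) {H H' : Subgroup W} {θ : K → ℂ} {Θ : W → ℂ} (h : OV ι H θ Θ) (w : W)
    (hH : ∀ c ∈ H, w⁻¹ * c * w ∈ H') : OV ι H' (fun k => θ (e.au w k)) (fun y => Θ (w * y * w⁻¹)) := by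
  intro S hS
  have h1 := h (e.au w '' S) (by
    rintro c hc _ y h2 ⟨x, hx, rfl⟩
    refine ⟨e.au w⁻¹ y, hS _ (hH c hc) x _ ?_ hx, ?_⟩
    · rw [e.au_spec, h2, e.au_spec]
      group
    · rw [map_inv, MulAut.apply_inv_self])
  rw [finsum_mem_image (e.au w).injective.injOn, finsum_mem_image (e.au w).injective.injOn] at h1
  simpa only [e.au_spec, mul_one, mul_inv_cancel, map_one] using h1

variable [Finite K] [Finite W]

theorem sum_over (e : Emb ι) {χ : IrrCharacter W} {ψ : IrrCharacter K} (h : Ov ι (χ : W → ℂ) (ψ : K → ℂ)) :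
    OV ι ⊤ (ψ : K → ℂ) (χ : W → ℂ) := by
  classical
  intro S hS
  haveI := e.nor
  letI := Fintype.ofFinite K
  letI := Fintype.ofFinite ι.range
  set q := (MonoidHom.ofInjective e.inj).symm with hq
  have h1 : ∀ y : ι.range, ι (q y) = y := fun y =>
    congrArg Subtype.val ((MonoidHom.ofInjective e.inj).apply_symm_apply y)
  have h2 := (ov_subtype_iff _ _ _).1 ((ov_src_iff q (ι := ι) (ι' := ι.range.subtype) (fun a => (h1 a).symm) _ ψ).2 h)
  have h3 := Over.sum_mul_eq_of_over ι.range χ.2 (tr q ψ).2 h2 (fun n => if q n ∈ S then 1 else 0) fun g n =>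
    if_congr ⟨hS g⁻¹ (Subgroup.mem_top _) _ _ (by rw [h1, h1, MulAut.conjNormal_apply]; group),
      hS g (Subgroup.mem_top _) _ _ (by rw [h1, h1, MulAut.conjNormal_apply])⟩ rfl rfl
  have h4 : ∀ F : K → ℂ, ∀ c : ℂ, ∑ᶠ x ∈ S, F x / c = (∑ n : ι.range, (if q n ∈ S then 1 else 0) * F (q n)) / c := by
    intro F c
    rw [Finset.sum_div, finsum_mem_def, finsum_eq_sum_of_fintype]
    refine (Fintype.sum_equiv q.toEquiv _ _ fun n => ?_).symm
    by_cases hn : q n ∈ S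
    · rw [if_pos hn, one_mul]
      exact (Set.indicator_of_mem hn fun x => F x / c).symm
    · rw [if_neg hn, zero_mul, zero_div]
      exact (Set.indicator_of_notMem hn fun x => F x / c).symm
  rw [h4 (fun x => (χ : W → ℂ) (ι x)), h4]
  simp only [h1]
  simpa only [tr_apply, map_one] using h3

/-- a character of `H` over a character of the preimage -/
theorem OV.of_ov (e : Emb ι) {C : Subgroup K} {H : Subgroup W} (hC : ∀ k, ι k ∈ H ↔ k ∈ C) {θ : K → ℂ} {Θ : W → ℂ}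
    (h0 : ∀ k, k ∉ C → θ k = 0) (h0' : ∀ w, w ∉ H → Θ w = 0) {χ : IrrCharacter H} {ψ : IrrCharacter C}
    (h1 : ∀ x : H, (χ : H → ℂ) x = Θ x) (h2 : ∀ x : C, (ψ : C → ℂ) x = θ x)
    (h : Ov (rs ι hC) (χ : H → ℂ) (ψ : C → ℂ)) : OV ι H θ Θ := by
  intro S hS
  have h3 := sum_over (e.rs hC) h {x : C | (x : K) ∈ S} fun c _ x y h4 hx =>
    hS c c.2 x y (congrArg Subtype.val h4) hx
  simp only [h1, h2, rs_coe] at h3
  rw [← Cov.fs_ext C (F := fun x => Θ (ι x) / Θ 1) fun g hg => by rw [h0' _ fun h5 => hg ((hC g).1 h5), zero_div],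
    ← Cov.fs_ext C (F := fun x => θ x / θ 1) fun g hg => by rw [h0 g hg, zero_div]]
  exact h3

variable {p : ℕ} [Fact p.Prime] {M : Ideal AlgInt}

theorem covH_of_icc (hM : IsPModular p M) (e : Emb ι) {B : Set (IrrCharacter W)} (hB : IsPBlock M B)
    {b : Set (IrrCharacter K)} (hb : IsPBlock M b) (h : ∀ χ ∈ B, ∀ ψ ∈ b, ∀ k : K,
      MemLocalIdeal M (centralChar (χ : W → ℂ) (ι k) - icc ι (ψ : K → ℂ) (ι k))) : CovH ι B b := by
  haveI := e.nor
  haveI := Local.isPrime_of_isPModular hM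
  letI := Fintype.ofFinite W
  letI := Fintype.ofFinite ι.range
  set q := (MonoidHom.ofInjective e.inj).symm with hq
  have h1 : ∀ y : ι.range, ι (q y) = y := fun y =>
    congrArg Subtype.val ((MonoidHom.ofInjective e.inj).apply_symm_apply y)
  refine (covH_src_iff q (ι := ι) (ι' := ι.range.subtype) fun a => (h1 a).symm).1 (KM.BK.covH_iff.2 ?_)
  refine (S0965.result p M hM ι.range B hB _ (isPBlock_trSet q hb)).2 fun χ hχ θ hθ n => ?_
  have h2 := h χ hχ _ (mem_trSet.1 hθ) (q n)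
  rw [← icc_src q ι ι.range.subtype (fun a => (h1 a).symm), tr_tr_symm, h1] at h2
  exact h2

theorem conj_of_covH (hM : IsPModular p M) (e : Emb ι) {B : Set (IrrCharacter W)} (hB : IsPBlock M B)
    {b : Set (IrrCharacter K)} (hb : IsPBlock M b) (h : CovH ι B b) {χ : IrrCharacter W} (hχ : χ ∈ B)
    {ψ : IrrCharacter K} (hψ : Ov ι (χ : W → ℂ) (ψ : K → ℂ)) :
    ∃ w : W, ∃ θ ∈ b, ∀ k, (ψ : K → ℂ) k = (θ : K → ℂ) (e.au w k) := by
  haveI := e.nor
  haveI := Local.isPrime_of_isPModular hM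
  letI := Fintype.ofFinite W
  letI := Fintype.ofFinite ι.range
  set q := (MonoidHom.ofInjective e.inj).symm with hq
  have h1 : ∀ y : ι.range, ι (q y) = y := fun y =>
    congrArg Subtype.val ((MonoidHom.ofInjective e.inj).apply_symm_apply y)
  obtain ⟨χ0, h2, θ0, h3, h4⟩ := KM.BK.covH_iff.1
    ((covH_src_iff q (ι := ι) (ι' := ι.range.subtype) fun a => (h1 a).symm).2 h)
  obtain ⟨w, θ, h5, h6⟩ := S0964.result p M hM ι.range B hB _ (isPBlock_trSet q hb) χ0 h2 θ0 h3 h4 χ hχ (tr q ψ)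
    ((ov_subtype_iff _ _ _).1 ((ov_src_iff q (ι := ι) (ι' := ι.range.subtype) (fun a => (h1 a).symm) _ ψ).2 hψ))
  refine ⟨w, _, mem_trSet.1 h5, fun k => ?_⟩
  have h7 := h6 (q.symm k)
  rw [tr_apply, MulEquiv.apply_symm_apply] at h7
  rw [h7, tr_apply]
  exact congrArg (θ : ι.range → ℂ) (Subtype.ext (e.au_spec w k).symm)

/-- **covering of induced blocks** -/
theorem cover (hM : IsPModular p M) (e : Emb ι) {C : Subgroup K} {H : Subgroup W} {θ : K → ℂ} {Θ : W → ℂ}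
    (h1 : IsIrrCharacter C fun x => θ x) (h2 : ∀ g, g ∉ C → θ g = 0) {b : Set (IrrCharacter K)}
    (h3 : IsInducedBlock M C (blockOf M fun x : C => θ x) b)
    (k1 : IsIrrCharacter H fun x => Θ x) (k2 : ∀ g, g ∉ H → Θ g = 0) {B : Set (IrrCharacter W)}
    (k3 : IsInducedBlock M H (blockOf M fun x : H => Θ x) B) (h : OV ι ⊤ θ Θ) : CovH ι B b := by
  haveI := Local.isPrime_of_isPModular hM
  refine covH_of_icc hM e k3.2.1 h3.2.1 fun χ hχ ψ hψ k => ?_
  have a1 := Cov.ind_sum k1 k2 k3 hχ {x | IsConj (ι k) x} fun x hx y hy => IsConj.trans hx hy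
  have a2 := Cov.ind_sum h1 h2 h3 hψ {x | IsConj (ι k) (ι x)} fun x hx y hy => IsConj.trans hx (ι.map_isConj hy)
  have a3 : {x | IsConj (ι k) x} = ι '' {x | IsConj (ι k) (ι x)} := by
    ext x
    refine ⟨fun hx => ?_, by rintro ⟨y, hy, rfl⟩; exact hy⟩
    obtain ⟨c, rfl⟩ := isConj_iff.1 hx
    exact ⟨e.au c k, by change IsConj _ _; rwa [e.au_spec], e.au_spec c k⟩
  rw [← Cov.cc_eq χ.2, a3, finsum_mem_image e.inj.injOn, h {x | IsConj (ι k) (ι x)} fun c _ x y h4 hx =>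
    IsConj.trans hx (isConj_iff.2 ⟨c, h4.symm⟩)] at a1
  exact Local.memLocalIdeal_sub_trans (Local.memLocalIdeal_sub_comm a1) a2

end Cfsg.Agent.BH.RZ.SA
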