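import Cfsg.Agent.BH.RZ.Defs
import Cfsg.Agent.BH.Perm.Fin
import Cfsg.Agent.BH.TT.DQ
import Cfsg.Agent.BH.Cmp.Main
import Cfsg.Agent.H646.PIndex
import Cfsg.Agent.H648.Dict

/-!
# BH, box RZ: a defect group which centralizes its intersection with `N` is abelian (helper99)
-/

set_option autoImplicit false
set_option linter.style.haveILetI false
set_option linter.unusedSectionVars false

open Cfsg

namespace Cfsg.Agent.BH.RZ

open Cfsg.Agent Cfsg.Agent.Characters.Core Cfsg.Agent.Blocks Cfsg.Agent.TID.Red Cfsg.Agent.KM.BK Cfsg.Agent.TO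
open Cfsg.Agent.H591.Reynolds (IsStab)
open Cfsg.Agent.KM.Mu (df card_sub card_inf_mul fac_mul)
open Cfsg.Agent.H592.Transport
open Cfsg.Agent.BH.Perm (df_eq fixes_iff exists_coeff res_eq fix_of_orb)

namespace AC

variable {p : ℕ} [Fact p.Prime] {M : Ideal AlgInt} {G : Type} [Group G] [Finite G]
  {B : Set (IrrCharacter G)} {D : Subgroup G}

theorem stab_cov (B : Set (IrrCharacter G)) (N : Subgroup G) [N.Normal] : IsStab (cov B N) ⊤ :=
  isStab_iff.2 fun g => ⟨fun _ => Cmp.stabH_cov B (Subgroup.le_normalizer_of_normal (Subgroup.mem_top g)),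
    fun _ => Subgroup.mem_top g⟩

/-- the case of an abelian quotient, all members of the block being extensions -/
theorem core (RT : BoxRT p M) (ORB : BoxORB p M) (hM : IsPModular p M) (hB : IsPBlock M B)
    (hD : IsDefectGroup p M B D) {N : Subgroup G} [N.Normal] (hcen : D ≤ Ce (D ⊓ N))
    (hc : ∀ x y : G, x * y * x⁻¹ * y⁻¹ ∈ N) (hres : ∀ χ ∈ B, IsIrrCharacter N fun n : N => (χ : G → ℂ) n) :
    Ab D := by
  have := Local.isPrime_of_isPModular hM
  have hDp := H592.Defect.isPGroup_of_isDefectGroup hD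
  intro d hd x hx
  obtain ⟨L, hL⟩ : ∃ L, L = N ⊔ Subgroup.zpowers x := ⟨_, rfl⟩
  have hNL : N ≤ L := hL ▸ le_sup_left
  have hxL : x ∈ L := hL ▸ Subgroup.mem_sup_right (Subgroup.mem_zpowers x)
  have hLn : L.Normal := ⟨fun y hy g => by
    have h1 := L.mul_mem (hNL (hc g y)) hy
    rwa [inv_mul_cancel_right] at h1⟩
  have hfix : ∀ f ∈ Fn (cov B L), ∀ α ∈ (MulAut.conjNormal : G →* MulAut L).range, f ∘ α = f := by
    rintro _ ⟨ψ, ⟨χ, hχ, h1⟩, rfl⟩ _ ⟨g, rfl⟩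
    letI := Fintype.ofFinite L
    have h6 : IsIrrCharacter L fun x : L => (χ : G → ℂ) x :=
      Cov.irr_of_comp (Subgroup.inclusion hNL) (isCharacter_comp' L.subtype (isIrr_isCharacter χ.2)) (hres χ hχ)
    have h7 : (fun x : L => (χ : G → ℂ) x) = ψ := by
      by_contra h
      exact (ov_subtype_iff L _ _).1 h1 (classInner_irr_ne h6 ψ.2 h)
    rw [← h7]
    funext x
    exact (congrArg (χ : G → ℂ) (MulAut.conjNormal_apply g x)).trans (Basic.irr_conj χ.2 _ _)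
  obtain ⟨χ, hχ⟩ : ∃ χ, χ ∈ cov B L := by
    obtain ⟨-, -, χ, hχ, -⟩ := covH_cov (N := L) hB
    exact ⟨χ, hχ⟩
  have hblk : IsPBlock M (cov B L) := by
    rw [TT.cov_eq hM hB hχ fun g n => (congrArg (χ : L → ℂ) (Subtype.ext (MulAut.conjNormal_apply g n).symm)).trans
      (congrFun (hfix _ ⟨χ, hχ, rfl⟩ _ ⟨g, rfl⟩) n)]
    exact ⟨χ, rfl⟩
  have hab : Ab (D ⊓ L) := by
    have h2 : ∀ a ∈ D ⊓ L, ∃ l ∈ D ⊓ N, ∃ k : ℤ, l * x ^ k = a := fun a ha => by
      obtain ⟨l, hl, _, ⟨k, rfl⟩, rfl⟩ := Subgroup.mem_sup_of_normal_left.1 (hL ▸ ha.2)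
      exact ⟨l, ⟨(D.mul_mem_cancel_right (D.zpow_mem hx k)).1 ha.1, hl⟩, k, rfl⟩
    intro a ha b hb
    obtain ⟨l, hl, k, rfl⟩ := h2 a ha
    obtain ⟨l', hl', k', h3⟩ := h2 b hb
    have h4 : Commute l b := Subgroup.mem_centralizer_iff.1 (hcen hb.1) l hl
    have h5 : Commute (x ^ k) b := by
      rw [← h3]
      exact (show Commute l' (x ^ k) from Subgroup.mem_centralizer_iff.1 (hcen (D.zpow_mem hx k)) l' hl').symm.mul_right
        (Commute.zpow_zpow_self x k k')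
    exact h4.mul_left h5
  obtain ⟨θ, hθ, hDθ⟩ := (RT hM G L B D hB hD hblk (stab_cov B L) hab).1
  have horb := ORB L _ _ _ hθ.can (MulAut.conjNormal : G →* MulAut L).range (Inn L) le_rfl (by
      rintro _ ⟨l, rfl⟩
      exact ⟨l, MulAut.conjNormal_val⟩) (fun α hα f => ⟨fun h => by
        have h1 := hfix _ h _ (inv_mem hα)
        have h2 : (f ∘ α) ∘ ⇑α⁻¹ = f := funext fun x => by simp
        rwa [← h2, h1], fun h => by rwa [hfix f h α hα]⟩) ⟨χ, ⟨χ, hχ, rfl⟩, by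
      rw [Subgroup.relIndex_eq_one.2 fun α hα => show α ∈ FixF (χ : L → ℂ) from
        ⟨fun _ => Iff.rfl, congrFun (hfix _ ⟨χ, hχ, rfl⟩ α hα)⟩]
      exact (Fact.out : p.Prime).not_dvd_one⟩ fun f hf α hα => ⟨1, one_mem _, hfix f hf α hα⟩
  obtain ⟨k, hk⟩ := hDp ⟨d, hd⟩
  have h1 : d ^ p ^ k = 1 := congrArg Subtype.val hk
  have h2 := fix_of_orb (boxCAN1 L p M _ _ _ hθ.can).idx (fun t ht v hv => (ht.1 v).2 hv)
    (α := MulAut.conjNormal d) (k := k) (by rw [← map_pow, h1, map_one]) (fun t ht v hv => Subtype.ext (by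
      rw [MulAut.conjNormal_apply, mul_inv_eq_iff_eq_mul]
      exact (Subgroup.mem_centralizer_iff.1 (hcen hd) _
        ⟨(mul_mem ((ht.1 v).2 hv) (inv_mem hv)).1, hc t v⟩).symm)) (fun v hv => by
      obtain ⟨_, ⟨⟨t, rfl⟩, ht⟩, h⟩ := horb (MulAut.conjNormal d) ⟨⟨d, rfl⟩, fun x => (hDθ hd).1 x,
        fun x => (hDθ hd).2 x⟩ v hv
      exact ⟨t, ht, h⟩) (u := ⟨x, hxL⟩) ⟨hx, hxL⟩
  have h3 := congrArg Subtype.val h2
  rw [MulAut.conjNormal_apply] at h3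
  exact mul_inv_eq_iff_eq_mul.1 h3

/-- the kernel of the action on `b` -/
def Kb (N : Subgroup G) [N.Normal] (b : Set (IrrCharacter N)) : Subgroup G where
  carrier := {g | ∀ ψ ∈ b, Covering.conjIrr N g ψ = ψ}
  one_mem' := fun ψ _ => Covering.conjIrr_one N ψ
  mul_mem' := fun {x y} hx hy ψ hψ => by rw [← Covering.conjIrr_conjIrr, hx ψ hψ, hy ψ hψ]
  inv_mem' := fun {x} hx ψ hψ => by
    conv_lhs => rw [← hx ψ hψ]
    rw [Covering.conjIrr_conjIrr, mul_inv_cancel, Covering.conjIrr_one]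

variable {N : Subgroup G} [hN : N.Normal]

theorem mem_Kb {b : Set (IrrCharacter N)} {g : G} : g ∈ Kb N b ↔ ∀ ψ ∈ b, Fixes N g (ψ : N → ℂ) :=
  forall₂_congr fun _ _ => fixes_iff.symm

theorem le_Kb (b : Set (IrrCharacter N)) : N ≤ Kb N b := fun g hg => mem_Kb.2 fun ψ _ n n' h => by
  rw [show n' = ⟨g, hg⟩ * n * (⟨g, hg⟩ : N)⁻¹ from Subtype.ext h]
  exact Basic.irr_conj ψ.2 _ _

theorem Kb_normal {b : Set (IrrCharacter N)} (hst : IsStab b ⊤) : (Kb N b).Normal := ⟨fun x hx y ψ hψ => by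
  rw [← Covering.conjIrr_conjIrr, ← Covering.conjIrr_conjIrr,
    hx _ ((hst.mem_iff y).1 (Subgroup.mem_top y) ψ hψ), Covering.conjIrr_conjIrr, mul_inv_cancel,
    Covering.conjIrr_one]⟩

/-- all members of the covered block extend to `N D` -/
theorem ext_all (EXT : BoxEXT p M) (hM : IsPModular p M) (hB : IsPBlock M B) (hD : IsDefectGroup p M B D) (hz : EQ p B)
    (hc : IsPBlock M (cov B N)) {F : Subgroup G} [hF : F.Normal] (hNF : N ≤ F) (hDF : D ≤ F)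
    (hfix : ∀ g ∈ F, ∀ ψ ∈ cov B N, Fixes N g (ψ : N → ℂ)) {φ : IrrCharacter N} (hφ : φ ∈ cov B N) :
    ExtTo N (N ⊔ D) (φ : N → ℂ) := by
  have := Local.isPrime_of_isPModular hM
  letI := Fintype.ofFinite G
  letI := Fintype.ofFinite F
  letI := Fintype.ofFinite (N.subgroupOf F)
  let e : N.subgroupOf F ≃* N := Subgroup.subgroupOfEquivOfLe hNF
  obtain ⟨c, h1, -, h2, h3⟩ := S4671.result p M hM F B hB D hD
  rw [inf_eq_left.2 hDF] at h3
  obtain ⟨ψ, hψ, h4⟩ := S4432.result p M hM (N.subgroupOf F) c h1 _ (isPBlock_trSet e hc) (by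
    obtain ⟨χ, hχ, ψ, hψ, h4⟩ := h2
    obtain ⟨φ', h5⟩ := exists_ov (N.subgroupOf F).subtype ψ.2
    refine ⟨ψ, hψ, φ', ⟨χ, hχ, (ov_src_iff e (ι' := F.subtype.comp (N.subgroupOf F).subtype) (fun _ => rfl) _ _).1 ?_⟩,
      (ov_subtype_iff _ _ _).1 h5⟩
    rw [tr_tr_symm]
    exact Ov.trans (fun _ => rfl) (isIrr_isCharacter χ.2) ψ.2 φ'.2 ((ov_subtype_iff _ _ _).2 h4) h5) _
    (tr_mem_trSet.2 hφ)
  have h5 : df p ψ = nc p (D.subgroupOf F) := by
    obtain ⟨χ, hχ, h5⟩ := S4432.result p M hM F B hB c h1 h2 ψ hψ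
    obtain ⟨g, h6, -⟩ := EXT hM G F B D hB hD χ hχ (df_eq hM hB hD hz hχ) ψ ((ov_subtype_iff _ _ _).2 h5)
    have h7 : cj g D ≤ F := by
      rintro _ ⟨d, hd, rfl⟩
      exact hF.conj_mem d (hDF hd) g
    rw [h6, inf_eq_left.2 h7]
    unfold nc
    rw [card_sub hDF, Subgroup.card_map_of_injective (MulAut.conj g).injective]
  obtain ⟨g, -, -, ξ, h6, h7⟩ := EXT hM F (N.subgroupOf F) c _ h1 h3 ψ hψ h5 (tr e φ) ((ov_subtype_iff _ _ _).2 h4)
  have hle : N ⊔ D ≤ F := sup_le hNF hDF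
  let j : (N ⊔ D : Subgroup G) →* (N.subgroupOf F ⊔ cj g (D.subgroupOf F) : Subgroup F) :=
    ((MulAut.conj g).toMonoidHom.comp (Subgroup.inclusion hle)).codRestrict _ fun x => by
      obtain ⟨n, hn, d, hd, h⟩ := Subgroup.mem_sup_of_normal_left.1 x.2
      have h8 : Subgroup.inclusion hle x = ⟨n, hNF hn⟩ * ⟨d, hDF hd⟩ := Subtype.ext h.symm
      rw [MonoidHom.comp_apply, h8, map_mul]
      exact Subgroup.mul_mem_sup (hN.conj_mem n hn g) ⟨⟨d, hDF hd⟩, hd, rfl⟩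
  have hj : Function.Surjective j := by
    rintro ⟨y, hy⟩
    obtain ⟨n, hn, _, ⟨d, hd, rfl⟩, rfl⟩ := Subgroup.mem_sup_of_normal_left.1 hy
    refine ⟨⟨(g : G)⁻¹ * n * g * d, Subgroup.mul_mem_sup (by simpa using hN.conj_mem n hn (g : G)⁻¹) hd⟩,
      Subtype.ext (Subtype.ext ?_)⟩
    change (g : G) * ((g : G)⁻¹ * n * g * d) * (g : G)⁻¹ = n * (g * d * (g : G)⁻¹)
    group
  have h8 := isIrr_comp j hj h6
  refine ⟨extendByZero F fun y => ξ (g * y * g⁻¹), ?_, fun n => ?_⟩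
  · convert h8 using 2 with x
    exact ClassSum.extendByZero_coe' F _ ⟨x, hle x.2⟩
  · refine (ClassSum.extendByZero_coe' F _ ⟨n, hNF n.2⟩).trans ((h7 ⟨_, hN.conj_mem n n.2 g⟩).trans ?_)
    exact hfix g g.2 φ hφ n _ rfl

/-- the block of `N D` -/
theorem exists_block (hM : IsPModular p M) (hB : IsPBlock M B) (hD : IsDefectGroup p M B D) (hc : IsPBlock M (cov B N))
    (hfix : ∀ g ∈ N ⊔ D, ∀ ψ ∈ cov B N, Fixes N g (ψ : N → ℂ)) :
    ∃ B' : Set (IrrCharacter (N ⊔ D : Subgroup G)), IsPBlock M B' ∧ IsDefectGroup p M B' (D.subgroupOf (N ⊔ D)) ∧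
      cov B' (N.subgroupOf (N ⊔ D)) = trSet (Subgroup.subgroupOfEquivOfLe le_sup_left) (cov B N) := by
  have := Local.isPrime_of_isPModular hM
  have hDp := H592.Defect.isPGroup_of_isDefectGroup hD
  set R := N ⊔ D with hR'
  letI := Fintype.ofFinite R
  letI := Fintype.ofFinite (N.subgroupOf R)
  let e : N.subgroupOf R ≃* N := Subgroup.subgroupOfEquivOfLe le_sup_left
  have hidx : (N.subgroupOf R).index = N.relIndex D := Subgroup.relIndex_sup_left D N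
  have hi : ∃ k, (N.subgroupOf R).index = p ^ k := by
    obtain ⟨k, hk⟩ := IsPGroup.iff_card.1 hDp
    have h1 : (N.subgroupOf R).index ∣ p ^ k := by
      rw [hidx, ← hk]
      exact Subgroup.relIndex_dvd_card N D
    obtain ⟨j, -, hj⟩ := (Nat.dvd_prime_pow Fact.out).1 h1
    exact ⟨j, hj⟩
  have hst : ∀ x : R, StabilizesBlock (N.subgroupOf R) (trSet e (cov B N)) x := fun x =>
    ⟨by rw [Subgroup.normalizer_eq_top]; trivial, fun χ hχ => ⟨χ, hχ, fun k k' h => by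
      rw [← tr_tr_symm e χ]
      exact hfix x x.2 _ (mem_trSet.1 hχ) (e k) (e k') (congrArg Subtype.val h)⟩⟩
  obtain ⟨B', hB', h1, h2⟩ := H646.UCov.exists_block_of_stable (N.subgroupOf R) hM
    (H646.UCov.ucov_of_index hM _ hi) (isPBlock_trSet e hc) hst
  have h0 : cov B' (N.subgroupOf R) = trSet e (cov B N) := by
    rw [← h1]
    ext θ
    exact exists_congr fun χ => and_congr_right fun _ => ov_subtype_iff _ _ _
  refine ⟨B', hB', ?_, h0⟩
  obtain ⟨D', hD'⟩ := H592.Defect.exists_defectGroup p hM hB'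
  obtain ⟨x, h3, h4⟩ := exists_coeff hM hB hD hc (stab_cov B N)
  have hp' : IsPGroup p (D.subgroupOf R) := hDp.comap_of_injective _ R.subtype_injective
  have hy := (S0959.result p M hM B' hB' D' hD' (D.subgroupOf R) hp').1 ⟨e.symm x, S0913.result p M hM _ hB' _, by
      rw [h2, H646.UCov.subgroupBlockCoeff_of_mem (e.symm x).2, blockCoeff_trSet, Subtype.coe_eta, e.apply_symm_apply]
      exact h3, _, IsConj.refl _, Subgroup.mem_centralizer_iff.2 fun d hd =>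
        Subtype.ext (Subgroup.mem_centralizer_singleton_iff.1 (h4 hd))⟩
  refine H648.Dict.isDefectGroup_of_card hM hB' hD' hp' ((H648.Dict.br_idem_ne_zero_iff hM hB' hD' hp').2 hy) ?_
  have h5 := (H646.PIndex.sup_eq_top_and_defect _ hM hi (isPBlock_trSet e hc) hst hB'
    (covH_iff.1 (h0 ▸ covH_cov hB')) hD').2.2
  rw [← H592.Defect.factorization_card_defect p hM hB' hD', ← H592.Defect.factorization_card_defect p hM
    (isPBlock_trSet e hc) (isDefectGroup_trSet e (defect_cov hM hB hD hc)), card_comap, card_sub inf_le_right, hidx,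
    fac_mul (card_inf_mul D N) Nat.card_pos.ne'] at h5
  rw [H592.Defect.card_eq_pow_factorization p (H592.Defect.isPGroup_of_isDefectGroup hD'), h5,
    ← H592.Defect.card_eq_pow_factorization p hDp, card_sub le_sup_right]

end AC

/-- **[AC]** -/
theorem boxAC {p : ℕ} [Fact p.Prime] {M : Ideal AlgInt} (EXT : BoxEXT p M) (REG : BoxREG p M) (RT : BoxRT p M)
    (ORB : BoxORB p M) : BoxAC p M := by
  intro hM _ G _ _ N hN B D hB hD hz hc ih hcen
  have hDp := H592.Defect.isPGroup_of_isDefectGroup hD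
  have hst := AC.stab_cov B N
  obtain ⟨θ, hθ, hDθ⟩ := (RT hM G N B D hB hD hc hst fun a ha b hb =>
    Subgroup.mem_centralizer_iff.1 (hcen hb.1) a ha).1
  have hDK : D ≤ AC.Kb N (cov B N) := fun d hd => AC.mem_Kb.2
    ((REG hM G N B D hB hD hc hst _ θ hθ).2.2 d (Subgroup.mem_sup_right ⟨hDθ hd, hcen hd⟩) (by
      obtain ⟨k, hk⟩ := hDp ⟨d, hd⟩
      have h1 : d ^ p ^ k = 1 := congrArg Subtype.val hk
      exact ⟨k, h1 ▸ N.one_mem⟩))
  have := AC.Kb_normal hst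
  have hDD := TB.comm_mem hM hB hD (eq_iff_hz.1 hz) hc (TT.bz_of_ihz ih)
  have hcm : ∀ x ∈ N ⊔ D, ∀ y ∈ N ⊔ D, x * y * x⁻¹ * y⁻¹ ∈ N := by
    intro x hx y hy
    obtain ⟨n, hn, a, ha, rfl⟩ := Subgroup.mem_sup_of_normal_left.1 hx
    obtain ⟨m, hm, b, hb, rfl⟩ := Subgroup.mem_sup_of_normal_left.1 hy
    have h1 := (QuotientGroup.eq_one_iff _).2 (hDD a ha b hb)
    rw [← QuotientGroup.eq_one_iff, ← h1, commutatorElement_def]
    simp only [QuotientGroup.mk_mul, QuotientGroup.mk_inv, (QuotientGroup.eq_one_iff n).2 hn,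
      (QuotientGroup.eq_one_iff m).2 hm, one_mul]
  obtain ⟨B', hB', hD', h0⟩ := AC.exists_block hM hB hD hc fun g hg => AC.mem_Kb.1 (sup_le (AC.le_Kb _) hDK hg)
  have h5 : Ab (D.subgroupOf (N ⊔ D)) := AC.core RT ORB hM hB' hD' (N := N.subgroupOf (N ⊔ D))
    (fun d hd => Subgroup.mem_centralizer_iff.2 fun u hu => Subtype.ext (Subgroup.mem_centralizer_iff.1 (hcen hd) u hu))
    (fun x y => hcm x x.2 y y.2) fun ξ hξ => by
      obtain ⟨θ', h3⟩ := exists_ov (N.subgroupOf (N ⊔ D)).subtype ξ.2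
      have h4 : θ' ∈ trSet (Subgroup.subgroupOfEquivOfLe le_sup_left) (cov B N) := h0 ▸ ⟨ξ, hξ, h3⟩
      obtain ⟨η, h5, h6⟩ := AC.ext_all EXT hM hB hD hz hc (AC.le_Kb _) hDK (fun g hg => AC.mem_Kb.1 hg) (mem_trSet.1 h4)
      rw [funext (res_eq (N.subgroupOf (N ⊔ D)) (fun x y => hcm x x.2 y y.2) h5 ξ.2 (θ := θ') (fun n => h6 ⟨n, n.2⟩) h3)]
      exact θ'.2
  exact fun a ha' b hb' => congrArg Subtype.val (h5 ⟨a, Subgroup.mem_sup_right ha'⟩ ha' ⟨b, Subgroup.mem_sup_right hb'⟩ hb')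

end Cfsg.Agent.BH.RZ
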