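import Cfsg.Agent.BH.RZ.RDa

/-!
# BH, box RZ from the regular case (helper52)

* `RD.only` : `B` is the only block over the invariant block of `K = N C_H(Q)`;
* `RD.core` : the case of an invariant block of `K`;
* `boxRZ`.
-/

set_option autoImplicit false
set_option linter.style.haveILetI false
set_option linter.unusedSectionVars false
set_option linter.unusedVariables false

namespace Cfsg.Agent.BH

open Cfsg Cfsg.Agent Cfsg.Agent.Characters.Core Cfsg.Agent.Blocks Cfsg.Agent.TID.Red Cfsg.Agent.KM.BK Cfsg.Agent.TO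
open Cfsg.Agent.KM.Mu (df df_add fac_mul card_sub card_inf_mul)
open Cfsg.Agent.H591.Reynolds (IsStab)

variable {p : ℕ} [Fact p.Prime] {M : Ideal AlgInt}

namespace RZ.RD

variable {G : Type} [Group G] [Finite G] {N K Q D : Subgroup G} {B : Set (IrrCharacter G)} {θ : G → ℂ}

theorem mem_cov (hNK : N ≤ K) {ψ : IrrCharacter K} (hψ : ψ ∈ cov B K) {φ : IrrCharacter N}
    (h : Ov (Subgroup.inclusion hNK) (ψ : K → ℂ) (φ : N → ℂ)) : φ ∈ cov B N :=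
  (Cmp.cov_eq hNK B).ge ⟨ψ, hψ, h⟩

theorem ih_sub {T : Subgroup G} (hNT : N ≤ T) (ih : IHz p M N.index) : IHz p M (N.subgroupOf T).index :=
  fun H _ _ h => ih H (h.trans (Nat.le_of_dvd (Nat.pos_of_ne_zero Subgroup.index_ne_zero_of_finite)
    (Subgroup.relIndex_dvd_index_of_le hNT)))

variable [hN : N.Normal] [hK : K.Normal]

theorem only (REG : BoxREG p M) (hM : IsPModular p M) (hB : IsPBlock M B) (hD : IsDefectGroup p M B D)
    (hb : IsPBlock M (cov B N)) (hs : IsStab (cov B N) ⊤) (r : Root p M N (cov B N) Q θ) (hKe : K = Kk N Q θ)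
    (hc : IsPBlock M (cov B K)) {ψ : IrrCharacter K} (hψ : ψ ∈ cov B K) {χ : IrrCharacter G}
    (h : Ov K.subtype (χ : G → ℂ) (ψ : K → ℂ)) : χ ∈ B := by
  have := Local.isPrime_of_isPModular hM
  have hNK : N ≤ K := hKe ▸ le_sup_left
  have hB' := Basic.isPBlock_blockOf (M := M) χ
  have hχ := Basic.mem_blockOf_self (M := M) χ
  obtain ⟨D', hD'⟩ := H592.Defect.exists_defectGroup p hM hB'
  obtain ⟨φ, hφ⟩ := exists_ov (Subgroup.inclusion hNK) ψ.2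
  have h1 := cov_of_stab hM hB' hb hs ⟨χ, hχ, φ, mem_cov hNK hψ hφ,
    Ov.trans (fun _ => rfl) (Cn.isChar χ.2) ψ.2 φ.2 h hφ⟩
  obtain ⟨χ₀, h2, h3⟩ := id hψ
  refine Basic.isPBlock_mem_of_sameBlock hB h2 fun g => ?_
  by_cases hg : g ∈ K
  · have hn : K.subtype.range.Normal := K.range_subtype.symm ▸ hK
    exact Local.memLocalIdeal_sub_trans
      ((passmanH hM K.subtype_injective hn hB hc).1 ⟨χ₀, h2, ψ, hψ, h3⟩ χ₀ h2 ψ hψ ⟨g, hg⟩)
      (Local.memLocalIdeal_sub_comm ((passmanH hM K.subtype_injective hn hB' hc).1 ⟨χ, hχ, ψ, hψ, h⟩ χ hχ ψ hψ ⟨g, hg⟩))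
  · rw [hKe] at hg
    exact Local.memLocalIdeal_sub ((REG hM G N B D hB hD hb hs Q θ r).1 χ₀ h2 g hg)
      ((REG hM G N _ D' hB' hD' (h1.symm ▸ hb) (h1.symm ▸ hs) Q θ (h1.symm ▸ r)).1 χ hχ g hg)

omit hN in
theorem nu_eq (hM : IsPModular p M) (hB : IsPBlock M B) (hD : IsDefectGroup p M B D) (hz : EQ p B)
    (hc : IsPBlock M (cov B K)) (hi : ¬ p ∣ (K ⊔ D).index) {χ : IrrCharacter G} (hχ : χ ∈ B) {ψ : IrrCharacter K}
    (hψ : ψ ∈ cov B K) : nu p χ = nu p ψ := by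
  have h1 := TB.df_hz hM hB hD (eq_iff_hz.1 hz) hχ
  have h2 := TB.df_hz hM hc (defect_cov hM hB hD hc) (TB.hn hM hB (eq_iff_hz.1 hz) hc) hψ
  rw [card_sub inf_le_right] at h2
  have h3 := df_add (p := p) χ
  have h4 := df_add (p := p) ψ
  have h5 := fac_mul (p := p) (card_inf_mul D K) Nat.card_pos.ne'
  have h6 := fac_mul (p := p) (Subgroup.relIndex_mul_index (le_sup_left : K ≤ K ⊔ D)) Subgroup.index_ne_zero_of_finite
  have h7 := fac_mul (p := p) K.index_mul_card Nat.card_pos.ne'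
  rw [Subgroup.relIndex_sup_left, Nat.factorization_eq_zero_of_not_dvd hi] at h6
  omega

/-- **The block of `K` is invariant.** -/
theorem core (REG : BoxREG p M) (RT : BoxRT p M) (RG : BoxRG p M) (AC : BoxAC p M) (hM : IsPModular p M) (km : KMa p)
    (hB : IsPBlock M B) (hD : IsDefectGroup p M B D) (hz : EQ p B) (hb : IsPBlock M (cov B N))
    (hs : IsStab (cov B N) ⊤) (ih : IHz p M N.index) (r : Root p M N (cov B N) Q θ) (hKe : K = Kk N Q θ)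
    (hc : IsPBlock M (cov B K)) (hcs : IsStab (cov B K) ⊤) : D ≤ Ss N Q θ := by
  have := Local.isPrime_of_isPModular hM
  have hNK : N ≤ K := hKe ▸ le_sup_left
  have hDN := defect_cov hM hB hD hb
  have hDK := defect_cov hM hB hD hc
  have hzc := eq_iff_hz.2 (TB.hn hM hB (eq_iff_hz.1 hz) hc)
  have h1 : Ab (D ⊓ N) := fun x hx y hy => congrArg Subtype.val
    (ab_of_defect hM hb r.can.hD r.can.comm hDN ⟨x, hx.2⟩ hx ⟨y, hy.2⟩ hy)
  obtain ⟨⟨θ₀, r₀, h2⟩, -⟩ := RT hM G N B D hB hD hb hs h1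
  have h3 : D ⊓ K ≤ Ce (D ⊓ N) := fun x hx => by
    obtain ⟨k, hk⟩ := H592.Defect.isPGroup_of_isDefectGroup hD ⟨x, hx.1⟩
    exact K_p r₀ (by rw [K_eq r r₀, ← hKe]; exact hx.2) (h2 hx.1) (congrArg Subtype.val hk)
  obtain ⟨ψ, hψ⟩ := Basic.isPBlock_nonempty hc
  obtain ⟨φ, hφ⟩ := exists_ov (Subgroup.inclusion hNK) ψ.2
  have h4 := AC hM km K (N.subgroupOf K) _ _ hc hDK hzc (cov_sub hM hNK hc hb
    (fun t _ => (isStab_iff.1 hs t).1 trivial) ⟨ψ, hψ, φ, mem_cov hNK hψ hφ, hφ⟩).2.1 (ih_sub hNK ih)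
    fun x hx y hy => Subtype.ext (h3 hx y ⟨hy.1.1, hy.2⟩)
  have h5 : Ab (D ⊓ K) := fun x hx y hy => congrArg Subtype.val (h4 ⟨x, hx.2⟩ hx ⟨y, hy.2⟩ hy)
  obtain ⟨⟨θ₁, r₁, -⟩, h6⟩ := RT hM G K B D hB hD hc hcs h5
  obtain ⟨θ', r', h7⟩ := below hNK r₁ (Q := D ⊓ N) (by rw [inf_assoc, inf_eq_right.2 hNK]) hDN
    (fun β hβ ⟨ψ', h7, φ', h8, h9⟩ => Basic.isPBlock_eq_of_mem hβ hb h8 (mem_cov hNK h7 h9))
    fun θ' r' => by rw [K_eq r r', hKe]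
  have h8 : K = Kk N (D ⊓ N) θ' := by rw [K_eq r r', hKe]
  rw [← S_eq r r']
  refine (RG G K _ _ θ₁ r₁ hzc (h6 θ₁ r₁) (fun ψ' h9 χ h10 => nu_eq hM hB hD hz hc
    ((REG hM G N B D hB hD hb hs Q θ r).2.1 K hKe.ge hc hcs) (only REG hM hB hD hb hs r hKe hc h9 h10) h9) D
    (H592.Defect.isPGroup_of_isDefectGroup hD)).trans (sup_le (h8.le.trans K_le_S) fun x hx =>
      Subgroup.mem_sup_right ⟨h7 hx.1, fun z hz' => hx.2 z ⟨⟨hz'.1.1, hNK hz'.1.2⟩, fun t ht => ?_⟩⟩)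
  exact (K_in (h8.le ht.2) (h7 ht.1) z hz').symm

end RZ.RD

open RZ RZ.RD in
/-- **[RZ]** -/
theorem boxRZ (EXT : BoxEXT p M) (REG : BoxREG p M) (RT : BoxRT p M) (RG : RZ.BoxRG p M) (AC : RZ.BoxAC p M) :
    BoxRZ p M := by
  intro hM km G _ _ N _ B D hB hD hz hb hs ih θ r
  have := Local.isPrime_of_isPModular hM
  have h1 := (RT hM G N B D hB hD hb hs fun x hx y hy => congrArg Subtype.val
    (r.can.comm ⟨x, hx.2⟩ hx ⟨y, hy.2⟩ hy)).2 θ r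
  have := normal_K h1
  have hS := normal_S h1
  have hNK : N ≤ Kk N (D ⊓ N) θ := le_sup_left
  obtain ⟨χ, hχ⟩ := Basic.isPBlock_nonempty hB
  obtain ⟨ψ, hψ⟩ := exists_ov (Kk N (D ⊓ N) θ).subtype χ.2
  have hc := Basic.isPBlock_blockOf (M := M) ψ
  have hψc := Basic.mem_blockOf_self (M := M) ψ
  obtain ⟨T, hT⟩ := exists_isStab hc
  have hKT := hT.le hc
  obtain ⟨B', hB', hcov, hi⟩ := FR_down hM hc hT hKT hB ⟨χ, hχ, ψ, hψc, hψ⟩
  obtain ⟨D', hD'⟩ := H592.Defect.exists_defectGroup p hM hB'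
  have h2 : CovH (Subgroup.inclusion (hNK.trans hKT)) B' (cov B N) := by
    letI := Fintype.ofFinite G
    letI := Fintype.ofFinite (Kk N (D ⊓ N) θ)
    obtain ⟨η, h2, ξ, h3, h4⟩ := hcov
    obtain ⟨φ, hφ⟩ := exists_ov (Subgroup.inclusion hNK) ξ.2
    obtain ⟨χ', h5, h6⟩ := S4432.result p M hM _ B hB _ hc ⟨χ, hχ, ψ, hψc, (ov_subtype_iff _ _ _).1 hψ⟩ ξ h3
    exact ⟨η, h2, φ, mem_cov hNK ⟨χ', h5, (ov_subtype_iff _ _ _).2 h6⟩ hφ,
      Ov.trans (fun _ => rfl) (Cn.isChar η.2) ξ.2 φ.2 h4 hφ⟩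
  obtain ⟨h3, h4, h5⟩ := cov_sub hM (hNK.trans hKT) hB' hb (fun t _ => (isStab_iff.1 hs t).1 trivial) h2
  obtain ⟨-, h6, h7⟩ := cov_sub hM hKT hB' hc (fun t ht => (isStab_iff.1 hT t).1 ht) hcov
  have h8 := (core REG RT RG AC hM km hB' hD' (eq_of_cnt (fun d => (FR_cnt hM hc hT hKT hB' hcov hi d).symm) hz) h4 h5
    (ih_sub (hNK.trans hKT) fun H _ _ h => ih H (h.trans (Nat.le_mul_of_pos_left _ Nat.card_pos)))
    (h3.symm ▸ root_sub (hNK.trans hKT) r) (K_sub (hNK.trans hKT) r.le r.zero).symm h6 h7).trans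
    (S_sub (hNK.trans hKT) r.le r.zero)
  obtain ⟨g, hg⟩ := conj_defect hM hB (FR_defect hM hc hT hKT hB' hcov hi hD') hD
  intro x hx
  rw [← hg] at hx
  obtain ⟨_, ⟨y, hy, rfl⟩, rfl⟩ := hx
  exact hS.conj_mem _ (h8 hy) g

end Cfsg.Agent.BH
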