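import Cfsg.Agent.BH.RZ.Defs
import Cfsg.Agent.BH.HN
import Cfsg.Agent.TO.Can1
import Cfsg.Agent.Blocks.Over

/-!
# BH, box RG: the regular case (helper83)

* `RG.bary` : the barycentre of an orbit in a torsor; `RG.proj` : the projection `Q → C_Q(E)`;
* `RG.phi` : the action of `G = N H` on `C_Q(E)`; `RG.cl` : Clifford theory; `boxRG`.
-/

set_option autoImplicit false

namespace Cfsg.Agent.BH.RZ

open Cfsg Cfsg.Agent Cfsg.Agent.Characters.Core Cfsg.Agent.Blocks Cfsg.Agent.TID.Red Cfsg.Agent.KM.BK Cfsg.Agent.TO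
open Cfsg.Agent.KM.Mu Cfsg.Agent.OddOrderCharacters.NormalInduced
open Cfsg.Agent.H592.Transport (tr)
open Cfsg.Agent.OddOrderCharacters.PF9.CliffGen (le_inertia isCharacter_resTo)

variable {p : ℕ} [Fact p.Prime]

namespace RG

/-- the barycentre of an orbit of length prime to `p` in a torsor -/
theorem bary {G A X : Type*} [Group G] [Finite G] [CommGroup A] [Finite A] [MulAction G X] [MulDistribMulAction G A]
    {b : Set X} {act : A → X → X} (mem : ∀ a, ∀ x ∈ b, act a x ∈ b) (one : ∀ x ∈ b, act 1 x = x)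
    (mul : ∀ a a', ∀ x ∈ b, act (a * a') x = act a (act a' x)) (free : ∀ a, ∀ x ∈ b, act a x = x → a = 1)
    (equi : ∀ (g : G) a, ∀ x ∈ b, g • act a x = act (g • a) (g • x)) (hA : IsPGroup p A) {x : X} (hx : x ∈ b)
    (hi : ¬ p ∣ (MulAction.stabilizer G x).index) :
    ∃ y ∈ b, ∀ a (g : G), g • act a y = act a y ↔ g • y = y ∧ g • a = a := by
  classical
  have inj : ∀ y ∈ b, ∀ a a', act a y = act a' y → a = a' := fun y hy a a' h =>
    (inv_mul_eq_one.1 (free _ y hy (by rw [mul _ _ y hy, h, ← mul _ _ y hy, inv_mul_cancel, one y hy]))).symm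
  have back : ∀ (g : G) a, (∃ c, act c x = g • act a x) → ∃ c, g • x = act c x := by
    rintro g a ⟨c, hc⟩
    refine ⟨g • a⁻¹ * c, ?_⟩
    rw [mul _ _ x hx, hc, ← equi g _ _ (mem a x hx), ← mul _ _ x hx, inv_mul_cancel, one x hx]
  let T : Subgroup G :=
    { carrier := {g | ∃ a, g • x = act a x}
      one_mem' := ⟨1, by rw [one_smul, one x hx]⟩
      mul_mem' := by
        rintro g g' ⟨a, ha⟩ ⟨a', ha'⟩
        exact ⟨g • a' * a, by rw [mul_smul, ha', equi g _ x hx, ha, mul _ _ x hx]⟩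
      inv_mem' := by
        rintro g ⟨a, ha⟩
        exact back g⁻¹ a ⟨1, by rw [← ha, inv_smul_smul]; exact one x hx⟩ }
  let _ := Fintype.ofFinite A
  let Y : Finset A := Finset.univ.filter fun a => ∃ g : G, g • x = act a x
  have hY : ∀ a, a ∈ Y ↔ ∃ g : G, g • x = act a x := fun a => by simp [Y]
  have hn : ¬ p ∣ Y.card := fun h => hi (h.trans (by
    have h1 : MulAction.stabilizer G x ≤ T := fun g hg => ⟨1, hg.trans (one x hx).symm⟩
    have h2 : (MulAction.stabilizer G x).relIndex T = Y.card := by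
      rw [Subgroup.relIndex, show (MulAction.stabilizer G x).subgroupOf T = MulAction.stabilizer T x from rfl,
        MulAction.index_stabilizer, ← Set.ncard_coe_finset,
        ← Set.InjOn.ncard_image (f := fun a => act a x) fun a _ a' _ h => inj x hx a a' h]
      congr 1
      ext y
      constructor
      · rintro ⟨⟨t, a, ha⟩, rfl⟩
        exact ⟨a, (hY a).2 ⟨t, ha⟩, ha.symm⟩
      · rintro ⟨a, ha, rfl⟩
        obtain ⟨g, hg⟩ := (hY a).1 ha
        exact ⟨⟨g, a, hg⟩, hg⟩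
    rw [← h2]
    exact Subgroup.relIndex_dvd_index_of_le h1))
  obtain ⟨k, hk⟩ := hA.exists_card_eq
  have hc : (Nat.card A).Coprime Y.card := hk ▸ ((Nat.Prime.coprime_iff_not_dvd Fact.out).2 hn).pow_left k
  obtain ⟨r, hr⟩ := (powCoprime hc).surjective (∏ a ∈ Y, a)
  rw [powCoprime_apply] at hr
  have key : ∀ g ∈ T, g • act r x = act r x := by
    rintro t ⟨c, hc'⟩
    have h1 : ∏ a ∈ Y, (t • a * c) = ∏ a ∈ Y, a := by
      have h2 : Function.Injective fun a : A => t • a * c := fun a a' h =>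
        MulAction.injective t (mul_right_cancel h)
      have h3 : Y.image (fun a => t • a * c) = Y := by
        refine Finset.eq_of_subset_of_card_le (fun a ha => ?_) (by rw [Finset.card_image_of_injective _ h2])
        obtain ⟨a', ha', rfl⟩ := Finset.mem_image.1 ha
        obtain ⟨g, hg⟩ := (hY a').1 ha'
        exact (hY _).2 ⟨t * g, by rw [mul_smul, hg, equi t _ x hx, hc', mul _ _ x hx]⟩
      conv_rhs => rw [← h3, Finset.prod_image h2.injOn]
    rw [Finset.prod_mul_distrib, Finset.prod_const, ← Finset.smul_prod', ← hr, smul_pow', ← mul_pow] at h1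
    rw [equi t r x hx, hc', ← mul _ _ x hx, (powCoprime hc).injective h1]
  refine ⟨act r x, mem r x hx, fun a g => ⟨fun h => ?_, fun h => by rw [equi g a _ (mem r x hx), h.1, h.2]⟩⟩
  have h1 := key g (back g (a * r) ⟨a * r, by rw [mul _ _ x hx]; exact h.symm⟩)
  rw [equi g a _ (mem r x hx), h1] at h
  exact ⟨h1, inj _ (mem r x hx) _ _ h⟩

variable {G : Type} [Group G] [Finite G]

open scoped IsMulCommutative in
/-- the projection onto the fixed points -/
theorem proj {Q H K : Subgroup G} (hQ : IsPGroup p Q) (hab : Q ≤ Ce Q) (hH : H ≤ Subgroup.normalizer (Q : Set G))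
    (hK : K ≤ H) (hKn : ∀ h ∈ H, ∀ x ∈ K, h * x * h⁻¹ ∈ K) (hi : ¬ p ∣ (Ce Q).relIndex K) :
    ∃ π : Q →* (Q ⊓ Ce K : Subgroup G), (∀ z : (Q ⊓ Ce K : Subgroup G), π ⟨z, z.2.1⟩ = z) ∧
      ∀ h ∈ H, ∀ u v : Q, (v : G) = h * u * h⁻¹ → (π v : G) = h * π u * h⁻¹ := by
  classical
  have : IsMulCommutative Q := ⟨⟨fun x y => Subtype.ext (hab y.2 x x.2)⟩⟩
  let ρ : H →* MulAut Q := (Q.normalizerMonoidHom).comp (Subgroup.inclusion hH)
  have hρ : ∀ (h : H) (u : Q), (ρ h u : G) = h * u * (h : G)⁻¹ := fun h u => rfl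
  let E : Subgroup (MulAut Q) := (K.subgroupOf H).map ρ
  have hE : Nat.card E = (Ce Q).relIndex K := by
    rw [← Subgroup.relIndex_ker, ← Subgroup.relIndex_subgroupOf hK]
    congr 1
    ext h
    rw [MonoidHom.mem_ker, Subgroup.mem_subgroupOf, Subgroup.mem_centralizer_iff]
    refine ⟨fun h1 u hu => ?_, fun h1 => ?_⟩
    · have h2 := hρ h ⟨u, hu⟩
      rw [h1] at h2
      exact (mul_inv_eq_iff_eq_mul.1 h2.symm).symm
    · ext u
      rw [hρ, ← h1 u u.2, mul_inv_cancel_right]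
      rfl
  let _ := Fintype.ofFinite E
  obtain ⟨k, hk⟩ := hQ.exists_card_eq
  have hc : (Nat.card Q).Coprime (Nat.card E) :=
    hk ▸ ((Nat.Prime.coprime_iff_not_dvd Fact.out).2 (hE ▸ hi)).pow_left k
  obtain ⟨m, hm⟩ : ∃ m : ℤ, ∀ u : Q, (u ^ Nat.card E) ^ m = u := ⟨_, (powCoprime hc).left_inv⟩
  let s : Q →* Q := ∏ x : E, (x : MulAut Q).toMonoidHom
  have hs : ∀ u, s u = ∏ x : E, (x : MulAut Q) u := fun u => by simp [s]
  have h1 : ∀ (h : H) (u : Q), s (ρ h u) = ρ h (s u) := fun h u => by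
    have h2 : ∀ (h : H), ∀ x ∈ E, ρ h * x * (ρ h)⁻¹ ∈ E := by
      rintro h _ ⟨x, hx, rfl⟩
      exact ⟨h * x * h⁻¹, hKn h h.2 x hx, by simp⟩
    rw [hs, hs, map_prod]
    refine (Fintype.prod_bijective (fun x : E => (⟨ρ h * x * (ρ h)⁻¹, h2 h x x.2⟩ : E)) ?_ _ _ fun x => ?_).symm
    · exact Finite.injective_iff_bijective.1 fun x y hxy => Subtype.ext (by simpa using hxy)
    · simp
  have h2 : ∀ (h : H), (h : G) ∈ K → ∀ u : Q, s (ρ h u) = s u := fun h hh u => by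
    rw [hs, hs]
    exact Fintype.prod_bijective (· * (⟨ρ h, h, hh, rfl⟩ : E)) (Group.mulRight_bijective _) _ _ fun x => rfl
  have h3 : ∀ u, ((s u ^ m : Q) : G) ∈ Q ⊓ Ce K := fun u => ⟨(s u ^ m).2, (Ce K).zpow_mem (fun h hh => by
    have h4 := hρ ⟨h, hK hh⟩ (s u)
    rw [← h1, h2 _ hh] at h4
    exact mul_inv_eq_iff_eq_mul.1 h4.symm) m⟩
  refine ⟨(Q.subtype.comp ((zpowGroupHom m).comp s)).codRestrict _ h3, fun z => Subtype.ext ?_, fun h hh u v huv => ?_⟩
  · change ((s ⟨z, z.2.1⟩ ^ m : Q) : G) = z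
    rw [hs, Finset.prod_congr rfl (g := fun _ => (⟨z, z.2.1⟩ : Q)), Finset.prod_const, Finset.card_univ,
      ← Nat.card_eq_fintype_card, hm]
    rintro ⟨_, x, hx, rfl⟩ -
    exact Subtype.ext ((hρ x _).trans (mul_inv_eq_iff_eq_mul.2 (z.2.2 x hx)))
  · change ((s v ^ m : Q) : G) = h * (s u ^ m : Q) * h⁻¹
    rw [show v = ρ ⟨h, hh⟩ u from Subtype.ext huv, h1, ← map_zpow, hρ]

omit [Finite G] in
/-- the action of `G = N H` on a subgroup normalised by `H` and centralised by `H ∩ N` -/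
theorem phi {N H Z : Subgroup G} [N.Normal] (hNH : N ⊔ H = ⊤) (hH : H ≤ Subgroup.normalizer (Z : Set G))
    (hZ : Z ≤ Ce (H ⊓ N)) : ∃ φ : G →* MulAut Z, N ≤ φ.ker ∧ ∀ h ∈ H, ∀ z : Z, (φ h z : G) = h * z * h⁻¹ := by
  let ρ : H →* MulAut Z := (Z.normalizerMonoidHom).comp (Subgroup.inclusion hH)
  have hρ : ∀ (h : H) (u : Z), (ρ h u : G) = h * u * (h : G)⁻¹ := fun h u => rfl
  let f : H →* G ⧸ N := (QuotientGroup.mk' N).comp H.subtype
  have hf : Function.Surjective f := fun y => by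
    obtain ⟨g, rfl⟩ := QuotientGroup.mk'_surjective N y
    obtain ⟨n, hn, h, hh, rfl⟩ := Subgroup.mem_sup_of_normal_left.1 (hNH ▸ Subgroup.mem_top g : g ∈ N ⊔ H)
    exact ⟨⟨h, hh⟩, by rw [map_mul, QuotientGroup.mk'_apply N n, (QuotientGroup.eq_one_iff n).2 hn, one_mul]; rfl⟩
  have hk : f.ker ≤ ρ.ker := fun h hh => by
    ext z
    rw [hρ, mul_inv_eq_iff_eq_mul]
    exact hZ z.2 h ⟨h.2, (QuotientGroup.eq_one_iff _).1 hh⟩
  refine ⟨(f.liftOfSurjective hf ⟨ρ, hk⟩).comp (QuotientGroup.mk' N), fun n hn => ?_, fun h hh z => ?_⟩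
  · rw [MonoidHom.mem_ker, MonoidHom.comp_apply, QuotientGroup.mk'_apply, (QuotientGroup.eq_one_iff n).2 hn, map_one]
  · rw [← hρ ⟨h, hh⟩, ← f.liftOfRightInverse_comp_apply _ (Function.rightInverse_surjInv hf) ⟨ρ, hk⟩ ⟨h, hh⟩]
    rfl

variable {N : Subgroup G} [hN : N.Normal]

omit [Finite G] in
theorem fixes_iff {g : G} {θ : N → ℂ} : Fixes N g θ ↔ conjFn N θ g = θ :=
  ⟨fun h => funext fun n => h n _ rfl, fun h n n' e => by
    rw [← congrFun h n]
    exact congrArg θ (Subtype.ext e)⟩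

/-- Clifford theory over a character all of whose overcharacters have the same `p`-part of the degree -/
theorem cl {ψ : IrrCharacter N} (h : ∀ χ : IrrCharacter G, Ov N.subtype (χ : G → ℂ) (ψ : N → ℂ) → nu p χ = nu p ψ)
    {T : Subgroup G} (hT : ∀ g, g ∈ T ↔ Fixes N g (ψ : N → ℂ)) (hNT : N ≤ T) :
    ¬ p ∣ T.index ∧ (∀ η : IrrCharacter T, Ov (Subgroup.inclusion hNT) (η : T → ℂ) (ψ : N → ℂ) → nu p η = nu p ψ) ∧
      ∀ S ≤ T, Mult p N S (ψ : N → ℂ) := by
  classical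
  let _ := Fintype.ofFinite G
  let _ := Fintype.ofFinite N
  let _ := Fintype.ofFinite T
  let _ := Fintype.ofFinite (N.subgroupOf T)
  have key : ∀ η : IrrCharacter T, Ov (Subgroup.inclusion hNT) (η : T → ℂ) (ψ : N → ℂ) → ¬ p ∣ T.index ∧
      nu p η = nu p ψ ∧ ∃ e : ℕ, ¬ p ∣ e ∧ ∀ n : N, (η : T → ℂ) ⟨n, hNT n.2⟩ = e * (ψ : N → ℂ) n := fun η hη => by
    have h0 := (ov_inclusion_iff hNT _ _).1 hη
    have hT' : ∀ g, conjFn N (ψ : N → ℂ) g = ψ → g ∈ T := fun g hg => (hT g).2 (fixes_iff.2 hg)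
    have h1 := H591.Cliff.irr_ind (K := G) ψ.2 hT' hNT η.2 h0
    have h2 := h ⟨_, h1⟩ (Ov.trans (ι₁ := Subgroup.inclusion hNT) (ι₂ := T.subtype) (fun _ => rfl)
      (isIrr_isCharacter h1) η.2 ψ.2 ((ov_subtype_iff T _ _).2 (by
        have h3 := H591.Cliff.classInner_res_ind (K := G) ψ.2 hT' hNT η.2 η.2 h0 h0
        rw [if_pos rfl] at h3
        exact h3.trans_ne one_ne_zero)) hη)
    obtain ⟨e, he⟩ := classInner_isNat (isCharacter_resTo hNT (isIrr_isCharacter η.2)) (isIrr_isCharacter ψ.2)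
    have h3 : ∀ n : N, (η : T → ℂ) ⟨n, hNT n.2⟩ = e * (ψ : N → ℂ) n := fun n => by
      have h4 := CharDeep.CliffordCorr.restrict_eq_smul_of_invariant (N.subgroupOf T) η.2 (H591.Cliff.isIrr_down hNT ψ.2)
        (fun g => (H591.Cliff.conjFn_down hNT _ g).2 (fixes_iff.1 ((hT g).1 g.2)))
        ((H591.Cliff.classInner_down_res hNT _ _).trans_ne h0)
      have h5 := congrFun h4 ⟨⟨n, hNT n.2⟩, n.2⟩
      rw [← he, ← H591.Cliff.classInner_down_res hNT]
      exact h5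
    have h4 : charDegree (η : T → ℂ) = e * charDegree (ψ : N → ℂ) := by
      have h5 := h3 1
      rw [show (⟨(1 : N), hNT (1 : N).2⟩ : T) = 1 from rfl, Basic.irr_one_eq_charDegree η.2,
        Basic.irr_one_eq_charDegree ψ.2] at h5
      exact_mod_cast h5
    have h5 : charDegree (indFun T (η : T → ℂ)) = T.index * charDegree (η : T → ℂ) := by
      have h6 := CharactersDeep.NormalInd.indFun_one T (η : T → ℂ)
      rw [Basic.irr_one_eq_charDegree h1, Basic.irr_one_eq_charDegree η.2] at h6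
      exact_mod_cast h6
    have h6 := fac_mul (p := p) h5.symm (Basic.charDegree_pos h1).ne'
    have h7 := fac_mul (p := p) h4.symm (Basic.charDegree_pos η.2).ne'
    have he0 : e ≠ 0 := fun h8 => (Basic.charDegree_pos η.2).ne' (by rw [h4, h8, zero_mul])
    change (charDegree (indFun T (η : T → ℂ))).factorization p = (charDegree (ψ : N → ℂ)).factorization p at h2
    refine ⟨fun h8 => ?_, ?_, e, fun h8 => ?_, h3⟩
    · have := (Fact.out : p.Prime).factorization_pos_of_dvd T.index_ne_zero_of_finite h8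
      omega
    · change (charDegree (η : T → ℂ)).factorization p = (charDegree (ψ : N → ℂ)).factorization p
      omega
    · have := (Fact.out : p.Prime).factorization_pos_of_dvd he0 h8
      omega
  obtain ⟨η, hη⟩ := Over.exists_over (N.subgroupOf T) ⟨_, H591.Cliff.isIrr_down hNT ψ.2⟩
  have h1 : Ov (Subgroup.inclusion hNT) (η : T → ℂ) (ψ : N → ℂ) :=
    (ov_inclusion_iff hNT _ _).2 ((H591.Cliff.classInner_down_res hNT _ _).symm.trans_ne hη)
  obtain ⟨h2, -, e, h3, h4⟩ := key η h1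
  refine ⟨h2, fun η' h' => (key η' h').2.1, fun S hS => ⟨fun g => if hg : g ∈ T then (η : T → ℂ) ⟨g, hg⟩ else 0, e, ?_, h3,
    fun n => (dif_pos (hNT n.2)).trans (h4 n)⟩⟩
  simp only [dif_pos (hS (Subtype.prop _))]
  exact isCharacter_resTo hS (isIrr_isCharacter η.2)

/-- the action on the characters of a normal subgroup -/
@[reducible] def actI (N : Subgroup G) [N.Normal] : MulAction G (IrrCharacter N) where
  smul g χ := tr (MulAut.conjNormal g⁻¹) χ
  one_smul χ := Subtype.ext (funext fun n => congrArg (χ : N → ℂ) (by simp))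
  mul_smul g h χ := Subtype.ext (funext fun n => congrArg (χ : N → ℂ) (by simp))

/-- the action on linear characters -/
@[reducible] def actL {V : Type} [Group V] (φ : G →* MulAut V) : MulDistribMulAction G (V →* ℂˣ) where
  smul g μ := μ.comp (φ g⁻¹).toMonoidHom
  one_smul μ := MonoidHom.ext fun v => congrArg μ (by simp)
  mul_smul g h μ := MonoidHom.ext fun v => congrArg μ (by simp)
  smul_mul _ _ _ := rfl
  smul_one _ := rfl

theorem idx {M : Ideal AlgInt} {b : Set (IrrCharacter N)} {Q : Subgroup G} {θ : G → ℂ} (R : Root p M N b Q θ) :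
    ¬ p ∣ (Ce Q).relIndex (In Q θ ⊓ N) := by
  have h1 : Ce (Q.subgroupOf N) = (Ce Q).subgroupOf N := Subgroup.ext (Cn.mem_Ce_sub R.le)
  have h2 : In (Q.subgroupOf N) (fun n : N => θ n) = (In Q θ ⊓ N).subgroupOf N := by
    ext n
    refine ⟨fun h => ⟨⟨fun y => ⟨fun hy => ?_, fun hy => (h.1 ⟨y, R.le hy⟩).2 hy⟩, fun g => ?_⟩, n.2⟩,
      fun h => ⟨fun y => h.1.1 y, fun g => h.1.2 g⟩⟩
    · exact (h.1 ⟨y, by simpa [mul_assoc] using hN.conj_mem _ (R.le hy) (n : G)⁻¹⟩).1 hy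
    · by_cases hg : g ∈ N
      · exact h.2 ⟨g, hg⟩
      · rw [R.zero g hg]
        exact R.zero _ fun h3 => hg (by simpa [mul_assoc] using hN.conj_mem _ h3 (n : G)⁻¹)
  rw [← Subgroup.relIndex_subgroupOf inf_le_right, ← h1, ← h2]
  exact R.can.idx

end RG

open RG

/-- **[RG]** -/
theorem boxRG {M : Ideal AlgInt} (SA : BoxSA p M) (TQ : BoxTQ p) (VG : BoxVG p) : BoxRG p M := by
  intro G _ _ N hN b Q θ R hE hNH hy D hD
  obtain ⟨act, S⟩ := SA G N b Q θ R hE
  have hQ : IsPGroup p Q := R.can.pg.of_equiv (Subgroup.subgroupOfEquivOfLe R.le)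
  have hab : Q ≤ Ce Q := fun x hx y hy => congrArg Subtype.val (R.can.comm ⟨y, R.le hy⟩ hy ⟨x, R.le hx⟩ hx)
  have hKn : ∀ h ∈ In Q θ, ∀ x ∈ In Q θ ⊓ N, h * x * h⁻¹ ∈ In Q θ ⊓ N := fun h hh x hx =>
    ⟨(In Q θ).mul_mem ((In Q θ).mul_mem hh hx.1) (inv_mem hh), hN.conj_mem x hx.2 h⟩
  obtain ⟨π, hπ, hπ'⟩ : ∃ π : Q →* Zr N Q θ, (∀ z : Zr N Q θ, π ⟨z, z.2.1⟩ = z) ∧
      ∀ h ∈ In Q θ, ∀ u v : Q, (v : G) = h * u * h⁻¹ → (π v : G) = h * π u * h⁻¹ :=
    proj hQ hab (fun h hh => Subgroup.mem_normalizer_iff.2 fun y => (hh.1 y).symm) inf_le_left hKn (idx R)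
  have hZn : ∀ h ∈ In Q θ, ∀ z ∈ Zr N Q θ, h * z * h⁻¹ ∈ Zr N Q θ := fun h hh z hz => ⟨(hh.1 z).2 hz.1, fun x hx => by
    have h1 := hz.2 _ (hKn h⁻¹ (inv_mem hh) x hx)
    rw [show x = h * (h⁻¹ * x * h⁻¹⁻¹) * h⁻¹ by group, conj_mul, conj_mul, h1]⟩
  obtain ⟨φ, hφ, hφ'⟩ := phi (Z := Zr N Q θ) hNH (fun h hh => Subgroup.mem_normalizer_iff.2 fun y =>
    ⟨hZn h hh y, fun h1 => by simpa [mul_assoc] using hZn _ (inv_mem hh) _ h1⟩) inf_le_right
  have hZ : IsPGroup p (Zr N Q θ) := hQ.to_le inf_le_left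
  have hinv : ∀ (μ : Zr N Q θ →* ℂˣ) (T : Subgroup G), T ≤ stb φ μ → Inv Q (In Q θ ⊓ T) (μ.comp π) :=
    fun μ T hT h hh u v huv => by
      rw [MonoidHom.comp_apply, MonoidHom.comp_apply, ← hT hh.2 (π u)]
      exact congrArg μ (Subtype.ext ((hπ' h hh.1 u v huv).trans (hφ' h hh.1 _).symm))
  have hNs : ∀ μ, N ≤ stb φ μ := fun μ n hn v => by rw [hφ hn, MulAut.one_apply]
  have hi := fun μ => hinv μ N (hNs μ)
  let _ := actI N
  let _ := actL φ
  have fixI : ∀ (g : G) (χ : IrrCharacter N), g⁻¹ • χ = χ ↔ Fixes N g (χ : N → ℂ) := fun g χ => by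
    rw [fixes_iff, Subtype.ext_iff]
    refine Eq.congr_left (funext fun n => congrArg (χ : N → ℂ) (Subtype.ext ?_))
    simp
  have fixL : ∀ (g : G) (μ : Zr N Q θ →* ℂˣ), g⁻¹ • μ = μ ↔ g ∈ stb φ μ := fun g μ => by
    rw [MonoidHom.ext_iff]
    refine forall_congr' fun v => Eq.congr_left (congrArg μ ?_)
    simp
  have hfix : ∀ n ∈ N, ∀ χ : IrrCharacter N, Fixes N n (χ : N → ℂ) := fun n hn χ =>
    fixes_iff.2 (le_inertia (isIrr_isClassFunction χ.2) hn)
  have stab : ∀ (χ : IrrCharacter N) g, g ∈ MulAction.stabilizer G χ ↔ Fixes N g (χ : N → ℂ) := fun χ g =>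
    inv_mem_iff.symm.trans (fixI g χ)
  have := R.can.prime
  obtain ⟨x, hx⟩ := Basic.isPBlock_nonempty R.can.hb
  obtain ⟨y, hyb, hy'⟩ := bary (G := G) (p := p) (act := fun μ : Zr N Q θ →* ℂˣ => act (μ.comp π))
    (fun μ => S.mem _ (hi μ)) S.one (fun μ μ' => S.mul _ _ (hi μ) (hi μ'))
    (fun μ χ hχ h => MonoidHom.ext fun z => by
      rw [← hπ z]
      exact DFunLike.congr_fun (S.free _ (hi μ) χ hχ h) _)
    (fun g μ χ hχ => by
      obtain ⟨n, hn, h, hh, rfl⟩ := Subgroup.mem_sup_of_normal_left.1 (hNH ▸ Subgroup.mem_top g : g ∈ N ⊔ In Q θ)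
      have h1 : ∀ ψ : IrrCharacter N, n • ψ = ψ := fun ψ => (stab ψ n).2 (hfix n hn ψ)
      have h2 : ∀ ν : Zr N Q θ →* ℂˣ, n • ν = ν := fun ν => by
        rw [← inv_inv n]
        exact (fixL _ ν).2 (hNs ν (inv_mem hn))
      rw [mul_smul, mul_smul, mul_smul, h1, h1, h2]
      refine Subtype.ext (funext fun m => (S.equi h⁻¹ (inv_mem hh) _ ((h • μ).comp π) (hi μ) (fun u v huv => ?_) χ hχ
        (h • χ) (fun m m' e => congrArg (χ : N → ℂ) (Subtype.ext e.symm)) m _ rfl).symm)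
      exact congrArg μ (Subtype.ext ((hφ' _ (inv_mem hh) _).trans (hπ' _ (inv_mem hh) u v huv).symm)))
    (fun μ => by
      obtain ⟨k, hk⟩ := hZ.exists_card_eq
      exact ⟨k, MonoidHom.ext fun z => by rw [MonoidHom.pow_apply, ← map_pow, ← hk, pow_card_eq_one', map_one]; rfl⟩)
    hx (cl (hy x hx) (stab x) fun n hn => (stab x n).2 (hfix n hn x)).1
  have hNT : N ≤ MulAction.stabilizer G y := fun n hn => (stab y n).2 (hfix n hn y)
  obtain ⟨c1, -, c2⟩ := cl (hy y hyb) (stab y) hNT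
  have hV := VG G N _ hNT y (fun t ht => (stab y t).1 ht) (Zr N Q θ)
    ⟨⟨fun a c => Subtype.ext (hab c.2.1 a a.2.1)⟩⟩ hZ φ hφ fun μ => by
      have h1 : ∀ g, g ∈ MulAction.stabilizer G y ⊓ stb φ μ ↔ Fixes N g (act (μ.comp π) y : N → ℂ) := fun g =>
        (and_congr (MulAction.stabilizer G y).inv_mem_iff.symm (fixL g μ).symm).trans ((hy' μ g⁻¹).symm.trans (fixI g _))
      have h2 := le_inf hNT (hNs μ)
      obtain ⟨d1, d2, d3⟩ := cl (hy _ (S.mem _ (hi μ) y hyb)) h1 h2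
      have h3 := S.rel _ h2 _ (hinv μ _ inf_le_right) y hyb
      have h4 : (act (μ.comp π) y : N → ℂ) 1 = (y : N → ℂ) 1 := by
        obtain ⟨ξ, -, e1, e2⟩ := h3 N N.subtype (MonoidHom.id N) (by rwa [Subgroup.range_subtype]) (fun _ => rfl)
          (by rw [MonoidHom.range_eq_top.2 Function.surjective_id]; infer_instance)
          (by rw [Subgroup.ker_subtype]; exact bot_le)
          (by
            rw [MonoidHom.range_eq_top.2 Function.surjective_id, Subgroup.index_top]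
            exact (Fact.out : p.Prime).not_dvd_one) y y.2 fun _ => rfl
        exact (e1 1).symm.trans (e2 1 (by rw [orderOf_one]; exact (Fact.out : p.Prime).not_dvd_one))
      refine ⟨fun h => d1 (h.trans ?_), fun h χ hχ => ?_⟩
      · rw [← Subgroup.inf_relIndex_left]
        exact Subgroup.relIndex_dvd_index_of_le inf_le_left
      · obtain ⟨χ', e1, e2⟩ := TQ G N _ h y (act (μ.comp π) y) (fun t ht => (stab y t).1 ht.1) (fun t ht => (h1 t).1 ht)
          (c2 _ inf_le_left) (d3 _ le_rfl) h3 h4 χ hχ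
        have e3 : nu p χ = nu p χ' := by rw [nu, nu, charDegree, charDegree, e2]
        rw [e3, d2 χ' e1, nu, nu, charDegree, charDegree, h4]
  obtain ⟨P⟩ : Nonempty (Sylow p (MulAction.stabilizer G y)) := inferInstance
  have h1 : ¬ p ∣ φ.ker.index := fun h => by
    have h2 : (P : Subgroup _).map (MulAction.stabilizer G y).subtype ≤ φ.ker := by
      rintro _ ⟨t, ht, rfl⟩
      obtain ⟨k, hk⟩ := P.2 ⟨t, ht⟩
      have h3 : (t : G) ^ p ^ k = 1 := congrArg Subtype.val (congrArg Subtype.val hk)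
      exact hV t t.2 ⟨k, h3 ▸ one_mem N⟩
    have h3 := h.trans (Subgroup.index_dvd_of_le h2)
    rw [Subgroup.index_map_subtype] at h3
    exact ((Fact.out : p.Prime).dvd_mul.1 h3).elim P.not_dvd_index c1
  intro d hd
  obtain ⟨k, hk⟩ := hD ⟨d, hd⟩
  have h2 : φ d = 1 := (QuotientGroup.eq_one_iff (N := φ.ker) d).1 (eq_one_of_coprime (k := k)
    (by rw [← QuotientGroup.mk_pow, show d ^ p ^ k = 1 from congrArg Subtype.val hk, QuotientGroup.mk_one])
    pow_card_eq_one' h1)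
  obtain ⟨n, hn, h, hh, rfl⟩ := Subgroup.mem_sup_of_normal_left.1 (hNH ▸ Subgroup.mem_top d : d ∈ N ⊔ In Q θ)
  rw [map_mul, hφ hn, one_mul] at h2
  refine Subgroup.mul_mem_sup hn ⟨hh, fun z hz => ?_⟩
  have h3 := hφ' h hh ⟨z, hz⟩
  rw [h2] at h3
  exact (mul_inv_eq_iff_eq_mul.1 h3.symm).symm

end Cfsg.Agent.BH.RZ
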