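import Cfsg.Agent.BH.RZ.SA2

/-!
# BH, box SA: the action of the invariant linear characters (helper77)
-/

set_option autoImplicit false
set_option linter.style.haveILetI false
set_option linter.unusedSectionVars false

namespace Cfsg.Agent.BH.RZ

namespace SA

open Cfsg Cfsg.Agent Cfsg.Agent.TID.Red Cfsg.Agent.TO Cfsg.Agent.Blocks Cfsg.Agent.Characters
open Cfsg.Agent.H649 Cfsg.Agent.H651 Cfsg.Agent.H650 Cfsg.Agent.TO.Can Cfsg.Agent.TO.Cn
open Cfsg.Agent.H592.Transport (tr tr_apply trSet mem_trSet tr_mem_trSet isPBlock_trSet isDefectGroup_trSet)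

section

variable {K W : Type} [Group K] [Group W] [Finite K] [Finite W] {ι : K →* W} {p : ℕ} [Fact p.Prime]
  {M : Ideal AlgInt} {b : Set (IrrCharacter K)} {Q : Subgroup K} {θ : K → ℂ}

theorem ov_res {ξ : W → ℂ} {χ : IrrCharacter K} (h : ∀ k, ξ (ι k) = (χ : K → ℂ) k) : Ov ι ξ (χ : K → ℂ) := by
  letI := Fintype.ofFinite K
  rw [ov_iff, show (fun k => ξ (ι k)) = (χ : K → ℂ) from funext h, Core.classInner_irr_self χ.2]
  exact one_ne_zero

theorem defect_up (hM : IsPModular p M) (e : Emb ι) (hi : ¬ p ∣ ι.range.index) (hb : IsPBlock M b)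
    (hQ : IsDefectGroup p M b Q) {B : Set (IrrCharacter W)} (hB : IsPBlock M B) (h : CovH ι B b) :
    IsDefectGroup p M B (Q.map ι) := by
  haveI := e.nor
  haveI := Local.isPrime_of_isPModular hM
  letI := Fintype.ofFinite W
  letI := Fintype.ofFinite ι.range
  set q := (MonoidHom.ofInjective e.inj).symm with hq
  have h1 : ∀ y : ι.range, ι (q y) = y := fun y =>
    congrArg Subtype.val ((MonoidHom.ofInjective e.inj).apply_symm_apply y)
  have h2 : Q.comap q.toMonoidHom = (Q.map ι).subgroupOf ι.range := by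
    ext y
    rw [Subgroup.mem_subgroupOf, ← h1, Subgroup.mem_map_iff_mem e.inj]
    rfl
  obtain ⟨P, hP, hPN⟩ := S4438.result p M hM ι.range _ (isPBlock_trSet q hb) (Q.map ι) (Q.map_le_range ι)
    (h2 ▸ isDefectGroup_trSet q hQ) B hB
    (KM.BK.covH_iff.1 ((covH_src_iff q (ι := ι) (ι' := ι.range.subtype) fun a => (h1 a).symm).2 h))
  have h3 : P ≤ ι.range := by
    intro x hx
    obtain ⟨k, hk⟩ := H592.Defect.isPGroup_of_isDefectGroup hP ⟨x, hx⟩
    have h4 : (QuotientGroup.mk' ι.range x) ^ p ^ k = 1 := by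
      rw [← map_pow, show x ^ p ^ k = 1 from congrArg Subtype.val hk, map_one]
    have h5 : (QuotientGroup.mk' ι.range x) ^ ι.range.index = 1 := pow_card_eq_one'
    have h6 := pow_gcd_eq_one.2 ⟨h4, h5⟩
    rw [Nat.Coprime.gcd_eq_one (((Nat.Prime.coprime_iff_not_dvd Fact.out).2 hi).pow_left k), pow_one] at h6
    exact (QuotientGroup.eq_one_iff x).1 h6
  rwa [← hPN, inf_eq_left.2 h3]

/-- a root of the block of an extension over the given root -/
theorem exists_dt (e : Emb ι) (hi : ¬ p ∣ ι.range.index) (hK : Can p M b Q θ) {χ : IrrCharacter K} (hχ : χ ∈ b)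
    {ξ : IrrCharacter W} (h : ∀ k, (ξ : W → ℂ) (ι k) = (χ : K → ℂ) k) :
    ∃ P Θ, Dt p M e b Q θ (blockOf M (ξ : W → ℂ)) P Θ := by
  haveI := hK.prime
  have hM := hK.hM
  have hB := Basic.isPBlock_blockOf (M := M) ξ
  have hx : ∀ w k, (χ : K → ℂ) (e.au w k) = (χ : K → ℂ) k := fun w k => by
    rw [← h, ← h, e.au_spec, Core.isIrr_isClassFunction ξ.2]
  have hinv : ∀ w, e.au w ∈ Stab b := fun w => mem_Stab_iff.2 (Basic.isPBlock_eq_of_mem (isPBlock_blkMap hK.hb) hK.hb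
    (mem_blkMap.2 (by rwa [show irrMap (e.au w).symm χ = χ from Subtype.ext (funext (hx w))])) hχ)
  have hD := defect_up hM e hi hK.hb hK.hD hB ⟨ξ, Basic.mem_blockOf_self ξ, χ, hχ, ov_res h⟩
  obtain ⟨Θ, hΘ⟩ := boxCAN0 W p M _ _ hM hB hD (by
    rintro _ ⟨x, hx, rfl⟩
    exact (e.ce Q x).2 (hK.ab hx))
  obtain ⟨ψ, hψ⟩ := exists_ov (rs ι (e.ce Q)) hΘ.chr.2
  have a1 : (fun c : Ce Q => extendByZero (Ce Q) (ψ : Ce Q → ℂ) c) = ψ := Cov.ext_coe _
  have a2 : ∀ g, g ∉ Ce Q → extendByZero (Ce Q) (ψ : Ce Q → ℂ) g = 0 := fun g hg =>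
    Core.extendByZero_of_notMem _ _ hg
  have a3 : OV ι (Ce (Q.map ι)) (extendByZero (Ce Q) (ψ : Ce Q → ℂ)) Θ :=
    OV.of_ov e (e.ce Q) a2 hΘ.zero (fun _ => rfl) (fun x => (congrFun a1 x).symm) hψ
  obtain ⟨b', hb'⟩ := inducedBlockDefined_centralizer hM hK.pg (Basic.isPBlock_blockOf (M := M) ψ)
  obtain ⟨w, χ', a4, a5⟩ := conj_of_covH hM e hB hb'.2.1 (cover hM e (by rw [a1]; exact ψ.2) a2 (by rw [a1]; exact hb')
    hΘ.irr hΘ.zero hΘ.ind fun S hS => a3 S fun c _ => hS c (Subgroup.mem_top c)) (Basic.mem_blockOf_self ξ) (ov_res h)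
  obtain rfl : χ' = χ := Subtype.ext (funext fun k => by
    rw [← hx w⁻¹ k, a5, map_inv, MulAut.apply_inv_self])
  obtain rfl : b' = b := Basic.isPBlock_eq_of_mem hb'.2.1 hK.hb a4 hχ
  have a6 : Can p M b' Q (extendByZero (Ce Q) (ψ : Ce Q → ℂ)) :=
    ⟨hM, hK.hD, hK.ab, by rw [a1]; exact ψ.2, by rw [a1]; exact hb', a2, fun d hd => by
      have h1 := a3 {d} fun c hc x y h1 h2 => by
        rw [Set.mem_singleton_iff] at h2 ⊢
        rw [h2, ← Subgroup.mem_centralizer_iff.1 hc _ (Subgroup.mem_map_of_mem ι hd), mul_inv_cancel_right] at h1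
        exact e.inj h1
      have h2 : extendByZero (Ce Q) (ψ : Ce Q → ℂ) 1 ≠ 0 := by
        rw [Core.extendByZero_of_mem _ _ (one_mem _)]
        exact Core.isIrr_apply_one_ne_zero ψ.2
      rwa [finsum_mem_singleton, finsum_mem_singleton, hΘ.triv _ (Subgroup.mem_map_of_mem ι hd), div_self hΘ.one_ne,
        eq_comm, div_eq_one_iff_eq h2] at h1⟩
  obtain ⟨x, a7, a8⟩ := a6.conj hK
  have a9 := (Dt.mk a6 hΘ rfl a3 hinv).conj (ι x⁻¹)
  have a10 : (fun y => extendByZero (Ce Q) (ψ : Ce Q → ℂ) ((MulAut.conj x⁻¹).symm y)) = θ := funext fun y => by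
    rw [← a8, MulAut.conj_symm_apply, inv_inv]
  rw [e.au_self, a10, map_inv MulAut.conj x, map_eq_of_iff (α := (MulAut.conj x)⁻¹) fun y => by
    rw [← a7, ← MulAut.conj_apply, MulAut.apply_inv_self]] at a9
  exact ⟨_, _, a9⟩

theorem irr_star (h : Can p M b Q θ) {η : K → ℂ} (hs : IsStable p M ⟨Q, root M Q θ⟩ η) (l : Q →* ℂˣ)
    (hl : ∀ x : Q, η x = l x) {χ : IrrCharacter K} (hχ : χ ∈ b) :
    IsIrrCharacter K (star p M ⟨Q, root M Q θ⟩ η (χ : K → ℂ)) := by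
  letI := Fintype.ofFinite K
  have h1 : ∀ g ∈ Q, η g = ext0 Q l g := fun g hg => (hl ⟨g, hg⟩).trans (ext0_of_mem l hg).symm
  refine star_isIrr (a := ⟨Q, root M Q θ⟩) h.hM h.hmax hs (fun g hg => ?_) ?_ hχ
    (star_isGeneralizedCharacter (a := ⟨Q, root M Q θ⟩) h.hM h.hmax ?_ hs (Core.isIrr_isCharacter χ.2))
  · rw [h1 g hg]
    exact ext0_mul_conj l hg
  · rw [h1 1 (one_mem _), ext0_apply_one]
  · rw [show (fun x : Q => η x) = fun x : Q => ext0 Q l x from funext fun x => h1 x x.2]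
    exact isGeneralizedCharacter_ext0 l

theorem eq_one_of_star (h : Can p M b Q θ) {η : K → ℂ} (hs : IsStable p M ⟨Q, root M Q θ⟩ η) {χ : IrrCharacter K}
    (hχ : χ ∈ b) (he : star p M ⟨Q, root M Q θ⟩ η (χ : K → ℂ) = χ) {u : K} (hu : u ∈ Q) : η u = 1 := by
  haveI := h.prime
  letI := Fintype.ofFinite K
  obtain ⟨f, ⟨f1, f2⟩, -⟩ := S4655.result p M h.hM Q (Subgroup.zpowers u) _ h.hmax.1.1 (Subgroup.zpowers_le.2 hu)
  obtain ⟨s, h1, h2⟩ := exists_blockPart_ne_zero_of_major h.hM h.hmax hχ (h.ab hu) f2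
  have hpu : ∃ k : ℕ, orderOf u = p ^ k := by
    obtain ⟨k, hk⟩ := IsPGroup.iff_card.1 (h.pg.to_le (Subgroup.zpowers_le.2 hu))
    exact ⟨k, by rw [← hk, Nat.card_zpowers]⟩
  have h3 := blockPart_secFun_starW h.hM (isWInv_etaW hs) (Core.isIrr_isClassFunction χ.2) hpu f1 h1
  rw [show starW p M (etaW p M ⟨Q, root M Q θ⟩ η) (χ : K → ℂ) = χ from he,
    etaW_eq hs (x := 1) rfl (by rw [conjIdx_one]; exact f2), one_mul, inv_one, mul_one] at h3
  exact ((mul_eq_right₀ h2).1 h3.symm)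

end

variable {G : Type} [Group G] [Finite G] {p : ℕ} [Fact p.Prime] {M : Ideal AlgInt} {N : Subgroup G} [hN : N.Normal]
  {b : Set (IrrCharacter N)} {Q : Subgroup G} {θ : G → ℂ}

theorem mem_In_of (h : Root p M N b Q θ) {g : G} {α : MulAut N} (hg : ∀ n : N, (α n : G) = g * n * g⁻¹)
    (hα : α ∈ LA (Q.subgroupOf N) fun n : N => θ n) : g ∈ In Q θ := by
  have h1 : ∀ y, y ∉ N → g * y * g⁻¹ ∉ N := fun y hy h1 => hy (by simpa [mul_assoc] using hN.conj_mem _ h1 g⁻¹)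
  refine mem_In.2 ⟨fun y => ?_, fun y => ?_⟩
  · by_cases hy : y ∈ N
    · rw [← hg ⟨y, hy⟩]
      exact hα.1 ⟨y, hy⟩
    · exact ⟨fun h2 => (h1 y hy (h.le h2)).elim, fun h2 => (hy (h.le h2)).elim⟩
  · by_cases hy : y ∈ N
    · rw [← hg ⟨y, hy⟩]
      exact hα.2 ⟨y, hy⟩
    · rw [h.zero y hy, h.zero _ (h1 y hy)]

theorem Inv.ext {H : Subgroup G} {l : Q →* ℂˣ} (hl : Inv Q H l) {g : G} (hg : g ∈ H) (hg' : g ∈ In Q θ) {v : G}
    (hv : v ∈ Q) : ext0 Q l (g * v * g⁻¹) = ext0 Q l v := by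
  rw [ext0_of_mem l hv, ext0_of_mem l (((mem_In.1 hg').1 v).2 hv), hl g hg ⟨v, hv⟩ _ rfl]

theorem st (h : Root p M N b Q θ) {l : Q →* ℂˣ} (hl : Inv Q (In Q θ ⊓ N) l) :
    IsStable p M ⟨Q.subgroupOf N, root M (Q.subgroupOf N) fun n : N => θ n⟩ fun n : N => ext0 Q l n :=
  stable h.can fun t ht _ hv =>
    have h1 := mem_In_of h (g := t) (α := MulAut.conj t) (fun _ => rfl) ht
    Inv.ext hl ⟨h1, t.2⟩ h1 hv

theorem irr (h : Root p M N b Q θ) {l : Q →* ℂˣ} (hl : Inv Q (In Q θ ⊓ N) l) {χ : IrrCharacter N} (hχ : χ ∈ b) :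
    IsIrrCharacter N (star p M ⟨Q.subgroupOf N, root M (Q.subgroupOf N) fun n : N => θ n⟩ (fun n : N => ext0 Q l n)
      (χ : N → ℂ)) :=
  irr_star h.can (st h hl) (l.comp (Subgroup.subgroupOfEquivOfLe h.le).toMonoidHom) (fun x => ext0_of_mem l x.2) hχ

open Classical in
/-- the action -/
noncomputable def act (p : ℕ) (M : Ideal AlgInt) (N Q : Subgroup G) (θ : G → ℂ) (l : Q →* ℂˣ) (χ : IrrCharacter N) :
    IrrCharacter N :=
  if h : IsIrrCharacter N (star p M ⟨Q.subgroupOf N, root M (Q.subgroupOf N) fun n : N => θ n⟩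
    (fun n : N => ext0 Q l n) (χ : N → ℂ)) then ⟨_, h⟩ else χ

omit [Finite G] [Fact p.Prime] hN in
theorem act_eq {l : Q →* ℂˣ} {χ : IrrCharacter N} (h : IsIrrCharacter N (star p M ⟨Q.subgroupOf N,
    root M (Q.subgroupOf N) fun n : N => θ n⟩ (fun n : N => ext0 Q l n) (χ : N → ℂ))) :
    act p M N Q θ l χ = ⟨_, h⟩ := dif_pos h

theorem equi (h : Root p M N b Q θ) {g : G} (hg : g ∈ In Q θ) {l l' : Q →* ℂˣ} (hl : Inv Q (In Q θ ⊓ N) l)
    (hl' : ∀ u v : Q, (v : G) = g * u * g⁻¹ → l' u = l v) {χ : IrrCharacter N} (hχ : χ ∈ b) {χ' : IrrCharacter N}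
    (hc : Cj N g (χ : N → ℂ) (χ' : N → ℂ)) :
    Cj N g (act p M N Q θ l χ : N → ℂ) (act p M N Q θ l' χ' : N → ℂ) := by
  set α : MulAut N := MulAut.conjNormal g with hα
  have hL : α ∈ LA (Q.subgroupOf N) fun n : N => θ n := ⟨fun x => (mem_In.1 hg).1 x, fun x => (mem_In.1 hg).2 x⟩
  have e : Emb α.toMonoidHom := ⟨α.injective, by
    rw [MonoidHom.range_eq_top_of_surjective α.toMonoidHom α.surjective]
    infer_instance⟩
  have h1 : ∀ w : N, e.au w = MulAut.conj (α.symm w) := fun w => by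
    rw [← e.au_self]
    exact congrArg e.au (α.apply_symm_apply w).symm
  have d : Dt p M e b (Q.subgroupOf N) (fun n : N => θ n) b (Q.subgroupOf N) fun n : N => θ n :=
    ⟨h.can, h.can, (map_eq_of_iff hL.1).symm, OV.of_eq hL.2, fun w => by
      rw [h1, mem_Stab_iff]
      exact blkMap_conj _ b⟩
  have h2 : ∀ v ∈ Q.subgroupOf N, ext0 Q l (α v : N) = ext0 Q l' v := fun v hv => by
    rw [ext0_of_mem l' (g := v) hv, ext0_of_mem l (g := (α v : N)) ((hL.1 v).2 hv),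
      hl' ⟨v, hv⟩ ⟨(α v : N), (hL.1 v).2 hv⟩ rfl]
  have h3 := d.res (η := fun n : N => ext0 Q l' n) (η' := fun n : N => ext0 Q l n) h2 (fun w hw v hv => by
    have h3 : (w : G) ∈ In Q θ := mem_In_of h (α := α * e.au w * α⁻¹) (fun n => by
      have h3 := congrArg Subtype.val (e.au_spec w (α⁻¹ n))
      simp only [MulEquiv.coe_toMonoidHom, MulAut.apply_inv_self] at h3
      exact h3) (mul_mem (mul_mem hL hw) (inv_mem hL))
    have h4 := congrArg Subtype.val (e.au_spec w v)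
    rw [← h2 v hv, ← h2 _ ((hw.1 v).2 hv), ← Inv.ext hl ⟨h3, w.2⟩ h3 (v := (α v : N)) ((hL.1 v).2 hv)]
    exact congrArg (ext0 Q l) h4) hχ
  have h4 : (χ' : N → ℂ) = fun k => (χ : N → ℂ) (α.toMonoidHom k) := funext fun k => hc k _ rfl
  rw [← h4] at h3
  have h5 : IsIrrCharacter N (star p M ⟨Q.subgroupOf N, root M (Q.subgroupOf N) fun n : N => θ n⟩
      (fun n : N => ext0 Q l' n) (χ' : N → ℂ)) :=
    funext h3 ▸ Core.isIrr_comp α.toMonoidHom α.surjective (irr h hl hχ)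
  intro n n' h6
  rw [act_eq h5, act_eq (irr h hl hχ), show n' = α.toMonoidHom n from Subtype.ext h6]
  exact (h3 n).symm

theorem rel (h : Root p M N b Q θ) {T : Subgroup G} (hT : N ≤ T) {l : Q →* ℂˣ} (hl : Inv Q (In Q θ ⊓ T) l)
    {χ : IrrCharacter N} (hχ : χ ∈ b) : Rel p N T (χ : N → ℂ) (act p M N Q θ l χ : N → ℂ) := by
  intro W _ _ π s h1 h2 h3 _ h5 ξ hξ h6
  haveI := h.can.prime
  have e : Emb s := ⟨fun a c h7 => Subtype.ext (by rw [← h2, h7, h2]), h3⟩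
  obtain ⟨P, Θ, d⟩ := exists_dt e h5 h.can hχ (ξ := ⟨ξ, hξ⟩) h6
  have a1 : ∀ v ∈ Q.subgroupOf N, ext0 Q l (π (s v)) = ext0 Q l v := fun v _ => by rw [h2]
  have a2 : ∀ w, e.au w ∈ LA (Q.subgroupOf N) (fun n : N => θ n) → ∀ v ∈ Q.subgroupOf N,
      ext0 Q l (e.au w v : N) = ext0 Q l v := fun w hw v hv => by
    have a2 : ∀ n : N, (e.au w n : G) = π w * n * (π w)⁻¹ := fun n => by
      rw [← h2, e.au_spec, map_mul, map_mul, map_inv, h2]
    have a3 := mem_In_of h a2 hw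
    rw [a2, Inv.ext hl ⟨a3, h1 ⟨w, rfl⟩⟩ a3 (v := v) hv]
  have a3 : ∀ x : P, π x ∈ Q := fun x => by
    obtain ⟨v, hv, h7⟩ : (x : W) ∈ (Q.subgroupOf N).map s := d.hP ▸ x.2
    rw [← h7, h2]
    exact hv
  have a4 := d.st' (η := fun n : N => ext0 Q l n) (η' := fun w => ext0 Q l (π w)) a1 a2
  have a5 := Basic.mem_blockOf_self (M := M) (⟨ξ, hξ⟩ : IrrCharacter W)
  refine ⟨_, irr_star d.hW a4 (l.comp ((π.comp P.subtype).codRestrict Q a3)) (fun x => ext0_of_mem l (a3 x)) a5,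
    fun n => ?_, fun w hw => ?_⟩
  · rw [act_eq (irr h (fun g hg => hl g ⟨hg.1, hT hg.2⟩) hχ),
      d.res (η := fun n : N => ext0 Q l n) (η' := fun w => ext0 Q l (π w)) a1 a2 a5 n]
    exact congrFun (congrArg _ (funext h6)) n
  · rw [star_apply_reg (a := ⟨P, root M P Θ⟩) d.hW.hM d.hW.hmax a4 a5 hw, map_one, ext0_apply_one, one_mul]

theorem sact (h : Root p M N b Q θ) : SAct p N b Q θ (act p M N Q θ) where
  mem := fun l hl χ hχ => by
    rw [act_eq (irr h hl hχ)]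
    exact star_mem (a := ⟨_, _⟩) h.can.hM h.can.hmax hχ _
  one := fun χ hχ => by
    have h1 : Inv Q (In Q θ ⊓ N) 1 := fun _ _ _ _ _ => rfl
    rw [act_eq (irr h h1 hχ)]
    exact Subtype.ext ((star_congr (a := ⟨_, _⟩) h.can.hM h.can.hmax (st h h1) (isStable_const 1)
      (fun g hg => ext0_one hg) hχ).trans (star_one (a := ⟨_, _⟩) h.can.hM h.can.hmax hχ))
  mul := fun l l' hl hl' χ hχ => by
    have h1 : Inv Q (In Q θ ⊓ N) (l * l') := fun g hg u v h1 => by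
      rw [MonoidHom.mul_apply, MonoidHom.mul_apply, hl g hg u v h1, hl' g hg u v h1]
    have h2 := star_mem (a := ⟨Q.subgroupOf N, root M (Q.subgroupOf N) fun n : N => θ n⟩) h.can.hM h.can.hmax hχ
      (irr h hl' hχ)
    rw [act_eq (irr h h1 hχ), act_eq (irr h hl' hχ), act_eq (irr h hl h2)]
    refine Subtype.ext (Eq.trans ?_ (star_star h.can.hM (st h hl) (st h hl') (Core.isIrr_isClassFunction χ.2)).symm)
    simp only [ext0_mul]
  free := fun l hl χ hχ h1 => by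
    rw [act_eq (irr h hl hχ)] at h1
    ext u
    have h2 := eq_one_of_star h.can (st h hl) hχ (congrArg Subtype.val h1) (u := ⟨u, h.le u.2⟩) u.2
    rwa [ext0_of_mem l u.2] at h2
  equi := fun _ hg _ _ hl hl' _ hχ _ hc => equi h hg hl hl' hχ hc
  rel := fun _ hT _ hl _ hχ => rel h hT hl hχ

end SA

/-- **[SA]** -/
theorem boxSA {p : ℕ} [Fact p.Prime] {M : Ideal AlgInt} : BoxSA p M := fun _ _ _ _ _ _ _ _ h _ => ⟨_, SA.sact h⟩

end Cfsg.Agent.BH.RZ
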