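import Cfsg.Agent.BH.RZ.Defs
import Cfsg.Agent.BH.TB

/-!
# BH, box TQ: two character triples with the same degrees (helper37)

Both characters extend to the fibre product of two covers.  The quotient of the two central characters extends to a
linear character of the cover: at the prime `p` by determinants, at the other primes by transfer.
-/

set_option autoImplicit false

namespace Cfsg.Agent.BH.RZ

namespace TQ

open Cfsg Cfsg.Agent Cfsg.Agent.Characters.Core Cfsg.Agent.TID.Red Cfsg.Agent.H592.Har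
open Cfsg.Agent.H592.Transport (tr tr_apply)

section grp

variable {W : Type} [Group W] [Finite W]

/-- the determinant of an irreducible character -/
theorem exists_det {η : W → ℂ} (hη : IsIrrCharacter W η) {d : ℕ} (hd : η 1 = d) :
    ∃ δ : W →* ℂˣ, (∀ n, η n = η 1 → δ n = 1) ∧
      ∀ z ∈ Subgroup.center W, ∀ c : ℂ, η z = c * η 1 → (δ z : ℂ) = c ^ d := by
  have h0 := isIrr_apply_one_ne_zero hη
  obtain ⟨n, ρ, hρ, rfl⟩ := hη
  have h1 : ρ.character 1 = (Module.finrank ℂ (Fin n → ℂ) : ℂ) := by simp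
  have hd' : Module.finrank ℂ (Fin n → ℂ) = d := by exact_mod_cast h1.symm.trans hd
  refine ⟨CharDeep.IrrEquiv.detHom ρ, fun x hx => Units.ext ?_, fun z hz c hc => ?_⟩
  · rw [CharDeep.IrrEquiv.detHom_apply, (Characters.Values.character_eq_finrank_iff ρ x).1 (hx.trans h1)]
    simp
  · obtain ⟨a, ha⟩ := CharDeep.IrrEquiv.exists_smul_of_commute ρ hρ (ρ z) fun g => by
      rw [← map_mul, ← map_mul, Subgroup.mem_center_iff.1 hz g]
    have h2 : ρ.character z = a * ρ.character 1 := by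
      change LinearMap.trace ℂ _ (ρ z) = a * LinearMap.trace ℂ _ (ρ 1)
      rw [ha, map_one, map_smul, smul_eq_mul]
    have h3 : a = c := mul_right_cancel₀ h0 (h2.symm.trans hc)
    rw [CharDeep.IrrEquiv.detHom_apply, ha, LinearMap.det_smul, map_one, mul_one, hd', h3]

/-- the transfer of a linear character which is trivial on a normal subgroup -/
theorem exists_transfer {S R : Subgroup W} [hS : S.Normal] (μ : R →* ℂˣ) (h : ∀ x : R, (x : W) ∈ S → μ x = 1) :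
    ∃ l : W →* ℂˣ, (∀ x ∈ S, l x = 1) ∧
      ∀ z ∈ Subgroup.center W, ∃ hz : z ^ R.index ∈ R, l z = μ ⟨z ^ R.index, hz⟩ := by
  classical
  refine ⟨MonoidHom.transfer μ, fun x hx => ?_, fun z hz => ?_⟩
  · have := Fintype.ofFinite (Quotient (MulAction.orbitRel (Subgroup.zpowers x) (W ⧸ R)))
    rw [MonoidHom.transfer_eq_prod_quotient_orbitRel_zpowers_quot]
    refine Finset.prod_eq_one fun q _ => h _ ?_
    exact hS.conj_mem' _ (pow_mem hx _) _
  · have key : ∀ (k : ℕ) (g₀ : W), g₀⁻¹ * z ^ k * g₀ ∈ R → g₀⁻¹ * z ^ k * g₀ = z ^ k := fun k g _ => by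
      rw [Subgroup.mem_center_iff.1 (pow_mem hz k) g⁻¹, inv_mul_cancel_right]
    exact ⟨_, MonoidHom.transfer_eq_pow μ z key⟩

/-- extension of a central linear character, prime by prime -/
theorem exists_ext {S U : Subgroup W} (κ : U →* ℂˣ)
    (h : ∀ q : ℕ, q.Prime → ∃ (l : W →* ℂˣ) (m : ℕ), ¬ q ∣ m ∧ (∀ x ∈ S, l x = 1) ∧
      ∀ u : U, (∃ k, u ^ q ^ k = 1) → l u = κ u ^ m) :
    ∃ l : W →* ℂˣ, (∀ x ∈ S, l x = 1) ∧ ∀ u : U, l u = κ u := by
  have key : ∀ u : U, U.subtype u ∈ S ⊔ commutator W → κ u = 1 := by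
    intro u hu
    by_contra hne
    obtain ⟨q, hq, hd⟩ := Nat.exists_prime_and_dvd (n := orderOf (κ u)) (by rwa [Ne, orderOf_eq_one_iff])
    obtain ⟨l, m, hm, hS, hl⟩ := h q hq
    obtain ⟨a, b, hb, hab⟩ := Nat.exists_eq_pow_mul_and_not_dvd (orderOf_pos u).ne' q hq.ne_one
    have h1 : (u ^ b) ^ q ^ a = 1 := by rw [← pow_mul, mul_comm, ← hab, pow_orderOf_eq_one]
    have h2 : S ⊔ commutator W ≤ l.ker := sup_le hS (Abelianization.commutator_subset_ker l)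
    have h3 : l ((u ^ b : U) : W) = 1 := h2 (pow_mem hu b)
    rw [hl _ ⟨a, h1⟩, map_pow, ← pow_mul] at h3
    rcases (Nat.Prime.dvd_mul hq).1 (hd.trans (orderOf_dvd_of_pow_eq_one h3)) with h4 | h4
    exacts [hb h4, hm h4]
  obtain ⟨l, h1, h2⟩ := PB.ext_mod (N := S ⊔ commutator W) (fun x y => Subgroup.mem_sup_right (by
    have := Subgroup.commutator_mem_commutator (Subgroup.mem_top x⁻¹) (Subgroup.mem_top y)
    rwa [commutatorElement_def, inv_inv, mul_assoc, mul_assoc, ← mul_assoc y] at this)) U.subtype κ key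
  exact ⟨l, fun x hx => h1 x (Subgroup.mem_sup_left hx), h2⟩

end grp

/-- a central cover of `T` with a section over `ι` -/
structure Dat {N T : Type} [Group N] [Group T] (ι : N →* T) (W : Type) [Group W] where
  π : W →* T
  s : N →* W
  surj : Function.Surjective π
  cen : π.ker ≤ Subgroup.center W
  sec : ∀ n, π (s n) = ι n
  normal : s.range.Normal
  inj : Function.Injective s

section cov

variable {N T W : Type} [Group N] [Group T] [Group W] [Finite N] [Finite T] [Finite W] {ι : N →* T}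

omit [Finite N] [Finite W] in
theorem irr_res {s : N →* W} (hs : Function.Injective s) {θ : N → ℂ} (hθ : IsIrrCharacter N θ) {Θ : W → ℂ}
    (h : ∀ n, Θ (s n) = θ n) : IsIrrCharacter s.range (fun n : s.range => Θ n) := by
  have h1 := isIrr_comp (MonoidHom.ofInjective hs).symm.toMonoidHom (MonoidHom.ofInjective hs).symm.surjective hθ
  convert h1 using 1
  funext n
  obtain ⟨n, rfl⟩ := (MonoidHom.ofInjective hs).surjective n
  simp only [MulEquiv.toMonoidHom_eq_coe, Function.comp_apply, MonoidHom.coe_coe, MulEquiv.symm_apply_apply]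
  exact h n

/-- Gallagher -/
theorem gall {s : N →* W} (hs : Function.Injective s) (hn : s.range.Normal) {θ : N → ℂ}
    (hθ : IsIrrCharacter N θ) {Θ : W → ℂ} (hΘ : IsIrrCharacter W Θ) (h : ∀ n, Θ (s n) = θ n) {ξ : W → ℂ}
    (hξ : IsIrrCharacter W ξ) (ho : Ov s ξ θ) :
    ∃ η : W → ℂ, IsIrrCharacter W η ∧ (∀ x ∈ s.range, η x = η 1) ∧ ∀ x, ξ x = Θ x * η x := by
  have := Fintype.ofFinite W
  have := Fintype.ofFinite N
  have := Fintype.ofFinite s.range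
  have h2 : classInner (fun n : s.range => ξ n) (fun n : s.range => Θ n) ≠ 0 := by
    rw [← Characters.Clifford.classInner_comp_mulEquiv (MonoidHom.ofInjective hs)]
    have e2 : (fun n : s.range => Θ n) ∘ MonoidHom.ofInjective hs = θ := funext h
    rw [e2]
    exact (ov_iff s ξ θ).1 ho
  obtain ⟨η, h1, h3, h4⟩ := CharactersDeep.CosetAverage.exists_irr_mul s.range Θ hΘ (irr_res hs hθ h) ξ hξ h2
  exact ⟨η, h1, fun x hx => by simpa using h3 ⟨x, hx⟩ 1, fun x => congrFun h4 x⟩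

omit [Finite T] in
theorem ov_of {θ : N → ℂ} (hθ : IsIrrCharacter N θ) {χ : T → ℂ} {e : ℂ} (he : e ≠ 0) (h : ∀ n, χ (ι n) = e * θ n) :
    Ov ι χ θ := by
  have := Fintype.ofFinite N
  have h1 : (fun n => χ (ι n)) = e • θ := funext h
  rw [ov_iff, h1, classInner_smul_left, classInner_irr_self hθ, mul_one]
  exact he

variable (C : Dat ι W) {θ : N → ℂ} (hθ : IsIrrCharacter N θ) {Θ : W → ℂ} (hΘ : IsIrrCharacter W Θ)
  (h : ∀ n, Θ (C.s n) = θ n)

include hθ hΘ h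

omit [Finite T] in
theorem star {χ : T → ℂ} (hχ : IsIrrCharacter T χ) (ho : Ov ι χ θ) :
    ∃ η : W → ℂ, IsIrrCharacter W η ∧ (∀ x ∈ C.s.range, η x = η 1) ∧ ∀ x, χ (C.π x) = Θ x * η x := by
  refine gall C.inj C.normal hθ hΘ h (isIrr_comp C.π C.surj hχ) ?_
  have := Fintype.ofFinite N
  rw [ov_iff] at ho ⊢
  simpa only [Function.comp_apply, C.sec] using ho

/-- the prime `p`: the determinant of a character of degree prime to `p` -/
theorem det_p {p m : ℕ} (hm : ¬ p ∣ m) {X : T → ℂ} (hX : IsCharacter T X) (hXN : ∀ n, X (ι n) = m * θ n)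
    {c : Subgroup.center W →* ℂˣ} (hc : ∀ (x : W) (z : Subgroup.center W), Θ (x * z) = Θ x * (c z : ℂ)) :
    ∃ (δ : W →* ℂˣ) (e : ℕ), ¬ p ∣ e ∧ (∀ x ∈ C.s.range, δ x = 1) ∧
      ∀ u : C.π.ker, δ u = (c ⟨u, C.cen u.2⟩)⁻¹ ^ e := by
  classical
  have := Fintype.ofFinite N
  have := finite_irr (G := T)
  have := Fintype.ofFinite (IrrCharacter T)
  obtain ⟨a, ha⟩ := exists_nat_comb hX
  have h1 : ∀ χ : IrrCharacter T, ∃ e : ℕ, classInner (fun n => (χ : T → ℂ) (ι n)) θ = e := fun χ =>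
    classInner_isNat (isCharacter_comp ι (isIrr_isCharacter χ.2)) (isIrr_isCharacter hθ)
  choose e he using h1
  have h2 : (m : ℂ) = ((∑ χ, a χ * e χ : ℕ) : ℂ) := by
    have h3 : (m : ℂ) • θ = ∑ χ : IrrCharacter T, (a χ : ℂ) • fun n => (χ : T → ℂ) (ι n) := by
      funext n
      have := congrFun ha (ι n)
      rw [hXN] at this
      simpa using this
    have h4 := congrArg (fun f => classInner f θ) h3
    simp only [classInner_sum_left, classInner_smul_left, classInner_irr_self hθ, mul_one, he] at h4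
    rw [h4]
    push_cast
    rfl
  obtain ⟨χ, hχ⟩ : ∃ χ, ¬ p ∣ e χ := by
    by_contra hcon
    push Not at hcon
    refine hm ?_
    rw [Nat.cast_injective h2]
    exact Finset.dvd_sum fun χ _ => (hcon χ).mul_left _
  have h0 : e χ ≠ 0 := fun h0 => hχ (h0 ▸ dvd_zero p)
  obtain ⟨η, hη, hS, hm⟩ := star C hθ hΘ h χ.2 (by
    rw [ov_iff, he]
    exact_mod_cast h0)
  have h5 : η 1 = e χ := by
    have h6 : (fun n => (χ : T → ℂ) (ι n)) = η 1 • θ := by
      funext n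
      rw [← C.sec, hm, h, hS _ ⟨n, rfl⟩, mul_comm]
      rfl
    rw [← he, h6, classInner_smul_left, classInner_irr_self hθ, mul_one]
  obtain ⟨δ, h6, h7⟩ := exists_det hη h5
  refine ⟨δ, e χ, hχ, fun x hx => h6 x (hS x hx), fun u => Units.ext ?_⟩
  rw [h7 u (C.cen u.2) ((c ⟨u, C.cen u.2⟩)⁻¹ : ℂˣ)]
  · simp
  have h8 := hm u
  have h9 := hm 1
  have h10 := hc 1 ⟨u, C.cen u.2⟩
  rw [u.2] at h8
  rw [map_one, h8] at h9
  rw [one_mul] at h10
  rw [h10, mul_assoc] at h9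
  rw [← mul_left_cancel₀ (isIrr_apply_one_ne_zero hΘ) h9, ← mul_assoc, Units.inv_mul, one_mul]

omit [Finite T] in
/-- the passage from `θ` to `ψ` -/
theorem pass {ψ : N → ℂ} (hψ : IsIrrCharacter N ψ) {Ψ : W → ℂ} (hΨ : IsIrrCharacter W Ψ)
    (h' : ∀ n, Ψ (C.s n) = ψ n) (h1 : ψ 1 = θ 1) {c c' : Subgroup.center W →* ℂˣ}
    (hc : ∀ (x : W) (z : Subgroup.center W), Θ (x * z) = Θ x * (c z : ℂ))
    (hc' : ∀ (x : W) (z : Subgroup.center W), Ψ (x * z) = Ψ x * (c' z : ℂ)) {l : W →* ℂˣ}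
    (hl : ∀ x ∈ C.s.range, l x = 1) (hl' : ∀ u : C.π.ker, l u = c ⟨u, C.cen u.2⟩ * (c' ⟨u, C.cen u.2⟩)⁻¹)
    (χ : IrrCharacter T) (ho : Ov ι (χ : T → ℂ) θ) :
    ∃ χ' : IrrCharacter T, Ov ι (χ' : T → ℂ) ψ ∧ (χ' : T → ℂ) 1 = (χ : T → ℂ) 1 := by
  obtain ⟨η, hη, hS, hm⟩ := star C hθ hΘ h χ.2 ho
  have hΘ1 : Θ 1 = θ 1 := by rw [← h, map_one]
  have hΨ1 : Ψ 1 = ψ 1 := by rw [← h', map_one]
  have hn := C.normal
  have hL : IsIrrCharacter W fun x => (l x : ℂ) * Ψ x :=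
    H595.Triple.isIrr_mul_inflate C.s.range hΨ (irr_res C.inj hψ h') (H595.Central.isIrr_hom l) fun x hx => by
      rw [hl x hx, map_one]
  have hL' : ∀ n, (l (C.s n) : ℂ) * Ψ (C.s n) = ψ n := fun n => by
    rw [hl _ ⟨n, rfl⟩, Units.val_one, one_mul, h']
  have hF : IsIrrCharacter W fun x => η x * ((l x : ℂ) * Ψ x) :=
    H595.Triple.isIrr_mul_inflate C.s.range hL (irr_res (Θ := fun x => (l x : ℂ) * Ψ x) C.inj hψ hL') hη hS
  obtain ⟨d, hd⟩ := TB.exists_om ⟨η, hη⟩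
  obtain ⟨χ', hχ'⟩ := H595.Central.descend C.π C.surj ⟨_, hF⟩ fun x k hk => by
    have h8 := hm k
    have h9 := hm 1
    have h10 := hc 1 ⟨k, C.cen hk⟩
    have h11 := hd 1 ⟨k, C.cen hk⟩
    have h12 := hd x ⟨k, C.cen hk⟩
    have h13 := hc' x ⟨k, C.cen hk⟩
    have h14 := hl' ⟨k, hk⟩
    simp only [one_mul] at h10 h11 h12 h13 h14
    rw [hk] at h8
    rw [map_one, h8, h10, h11] at h9
    have h15 : (c ⟨k, C.cen hk⟩ : ℂ) * d ⟨k, C.cen hk⟩ = 1 := by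
      refine mul_left_cancel₀ (mul_ne_zero (isIrr_apply_one_ne_zero hΘ) (isIrr_apply_one_ne_zero hη)) ?_
      linear_combination h9
    have h16 : ((c' ⟨k, C.cen hk⟩)⁻¹ : ℂˣ) * (c' ⟨k, C.cen hk⟩ : ℂ) = 1 := Units.inv_mul _
    change η (x * k) * ((l (x * k) : ℂ) * Ψ (x * k)) = η x * ((l x : ℂ) * Ψ x)
    rw [h12, h13, map_mul, h14, Units.val_mul, Units.val_mul]
    linear_combination η x * l x * Ψ x * ((c ⟨k, C.cen hk⟩ : ℂ) * d ⟨k, C.cen hk⟩) * h16 + η x * l x * Ψ x * h15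
  refine ⟨χ', ov_of hψ (isIrr_apply_one_ne_zero hη) fun n => ?_, ?_⟩
  · rw [← C.sec, hχ']
    change η _ * _ = _
    rw [hL', hS _ ⟨n, rfl⟩]
  · rw [← map_one C.π, hχ', hm]
    change η _ * _ = _
    rw [map_one, Units.val_one, one_mul, hΨ1, hΘ1, h1, mul_comm]

omit [Finite T] in
/-- the primes other than `p` -/
theorem det_q {p q : ℕ} (hp : p.Prime) (hq : q.Prime) (hpq : p ≠ q) {ψ : N → ℂ}
    (hψ : IsIrrCharacter N ψ) {Ψ : W → ℂ} (hΨ : IsIrrCharacter W Ψ) (h' : ∀ n, Ψ (C.s n) = ψ n) (h1 : ψ 1 = θ 1)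
    {c c' : Subgroup.center W →* ℂˣ}
    (hc : ∀ (x : W) (z : Subgroup.center W), Θ (x * z) = Θ x * (c z : ℂ))
    (hc' : ∀ (x : W) (z : Subgroup.center W), Ψ (x * z) = Ψ x * (c' z : ℂ))
    (hR : ∀ (R : Subgroup W) (s : N →* R), (∀ n, (s n : W) = C.s n) → s.range.Normal → ¬ p ∣ s.range.index →
      ∀ ξ : R → ℂ, IsIrrCharacter R ξ → (∀ n, ξ (s n) = θ n) → ∃ ξ' : R → ℂ, IsIrrCharacter R ξ' ∧
        (∀ n, ξ' (s n) = ψ n) ∧ ∀ w, ¬ p ∣ orderOf w → ξ' w = ξ w) :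
    ∃ (l : W →* ℂˣ) (m : ℕ), ¬ q ∣ m ∧ (∀ x ∈ C.s.range, l x = 1) ∧ ∀ u : C.π.ker, (∃ k, u ^ q ^ k = 1) →
      l u = (c ⟨u, C.cen u.2⟩ * (c' ⟨u, C.cen u.2⟩)⁻¹) ^ m := by
  have := Fact.mk hq
  have hn := C.normal
  have hpow : ∀ k, ¬ p ∣ q ^ k := fun k hk => hpq ((Nat.prime_dvd_prime_iff_eq hp hq).1 (hp.dvd_of_dvd_pow hk))
  obtain ⟨P⟩ : Nonempty (Sylow q (W ⧸ C.s.range)) := inferInstance
  set R : Subgroup W := (P : Subgroup (W ⧸ C.s.range)).comap (QuotientGroup.mk' C.s.range) with hRd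
  have hle : ∀ n, C.s n ∈ R := fun n => by
    rw [hRd, Subgroup.mem_comap, QuotientGroup.mk'_apply, (QuotientGroup.eq_one_iff (N := C.s.range) (C.s n)).2 ⟨n, rfl⟩]
    exact one_mem _
  set s : N →* R := C.s.codRestrict R hle with hs
  have hsr : s.range = C.s.range.subgroupOf R := by
    ext x
    exact ⟨fun ⟨n, hx⟩ => ⟨n, congrArg Subtype.val hx⟩, fun ⟨n, hx⟩ => ⟨n, Subtype.ext hx⟩⟩
  have hsn : s.range.Normal := by rw [hsr]; infer_instance
  have hsi : Function.Injective s := fun a b hab => C.inj (congrArg Subtype.val hab)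
  have hi : ¬ p ∣ s.range.index := by
    have h2 := Subgroup.relIndex_ker R (QuotientGroup.mk' C.s.range)
    rw [QuotientGroup.ker_mk', hRd, Subgroup.map_comap_eq_self_of_surjective (QuotientGroup.mk'_surjective _)] at h2
    obtain ⟨k, hk⟩ := IsPGroup.iff_card.1 P.isPGroup'
    rw [hsr]
    change ¬ p ∣ C.s.range.relIndex R
    rw [hRd, h2, hk]
    exact hpow k
  have irr : ∀ {φ : N → ℂ} {Φ : W → ℂ}, IsIrrCharacter N φ → IsIrrCharacter W Φ → (∀ n, Φ (C.s n) = φ n) →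
      IsIrrCharacter R fun x : R => Φ x := fun {φ Φ} h2 h3 h4 =>
    H595.Triple.isIrr_of_comp s (isCharacter_comp R.subtype (isIrr_isCharacter h3)) (by
      convert h2 using 1
      exact funext h4)
  obtain ⟨ξ, hξ, h2, h3⟩ := hR R s (fun _ => rfl) hsn hi _ (irr hθ hΘ h) h
  obtain ⟨η, hη, h4, h5⟩ := gall hsi hsn hψ (irr hψ hΨ h') h' hξ (ov_of hψ one_ne_zero fun n => by
    rw [h2, one_mul])
  have hΘ1 : Θ 1 = θ 1 := by rw [← h, map_one]
  have hΨ1 : Ψ 1 = ψ 1 := by rw [← h', map_one]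
  have h6 : η 1 = 1 := by
    have h7 := h5 1
    have h8 := h2 1
    rw [map_one] at h8
    rw [h8, Subgroup.coe_one, hΨ1] at h7
    exact (left_eq_mul₀ (isIrr_apply_one_ne_zero hψ)).1 h7
  obtain ⟨μ, hμ⟩ := CharDeep.LinearChar.exists_hom_of_isCharacter (isIrr_isCharacter hη) h6
  obtain ⟨l, h7, h8⟩ := exists_transfer (S := C.s.range) μ fun x hx => Units.ext (by
    rw [← hμ, h4 x (by rw [hsr]; exact hx), h6, Units.val_one])
  refine ⟨l, R.index, ?_, h7, fun u ⟨k, hk⟩ => ?_⟩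
  · rw [hRd, Subgroup.index_comap_of_surjective _ (QuotientGroup.mk'_surjective _)]
    exact P.not_dvd_index
  obtain ⟨hz, h9⟩ := h8 u (C.cen u.2)
  have h10 : ¬ p ∣ orderOf (⟨(u : W) ^ R.index, hz⟩ : R) := fun h11 => hpow k (h11.trans (orderOf_dvd_of_pow_eq_one
    (Subtype.ext (by
      have h12 : (u : W) ^ q ^ k = 1 := congrArg Subtype.val hk
      change ((u : W) ^ R.index) ^ q ^ k = 1
      rw [← pow_mul, mul_comm, pow_mul, h12, one_pow]))))
  have h11 := h3 _ h10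
  have h12 := hc 1 (⟨u, C.cen u.2⟩ ^ R.index)
  have h13 := hc' 1 (⟨u, C.cen u.2⟩ ^ R.index)
  rw [one_mul, Subgroup.coe_pow] at h12 h13
  rw [h5, hμ] at h11
  change Ψ ((u : W) ^ R.index) * _ = Θ ((u : W) ^ R.index) at h11
  rw [h12, h13, hΘ1, hΨ1, h1, mul_assoc] at h11
  have h14 := mul_left_cancel₀ (isIrr_apply_one_ne_zero hθ) h11
  rw [← Units.val_mul, Units.val_inj] at h14
  rw [h9, mul_pow, inv_pow, ← map_pow, ← map_pow, ← h14, mul_comm, inv_mul_cancel_left]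

end cov

/-- the fibre product of two covers -/
theorem exists_dat {T : Type} [Group T] [Finite T] {L : Subgroup T} [hL : L.Normal] {N : Type} [Group N]
    (e : L ≃* N) (θ ψ : IrrCharacter N)
    (hθ : ∀ (g : T) (n : L), (θ : N → ℂ) (e ⟨g * n * g⁻¹, hL.conj_mem n n.2 g⟩) = (θ : N → ℂ) (e n))
    (hψ : ∀ (g : T) (n : L), (ψ : N → ℂ) (e ⟨g * n * g⁻¹, hL.conj_mem n n.2 g⟩) = (ψ : N → ℂ) (e n)) :
    ∃ (W : Type) (_ : Group W) (_ : Finite W) (C : Dat (L.subtype.comp e.symm.toMonoidHom) W) (Θ Ψ : W → ℂ),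
      IsIrrCharacter W Θ ∧ IsIrrCharacter W Ψ ∧ (∀ n, Θ (C.s n) = (θ : N → ℂ) n) ∧
        ∀ n, Ψ (C.s n) = (ψ : N → ℂ) n := by
  obtain ⟨q, E, _, _, A, -⟩ := KM.Mu.exists_cover L (tr e θ) hθ
  obtain ⟨q', E', _, _, B, -⟩ := KM.Mu.exists_cover L (tr e ψ) hψ
  let W : Subgroup (E × E') := (A.π.comp (MonoidHom.fst E E')).eqLocus (B.π.comp (MonoidHom.snd E E'))
  have hW : ∀ x : E × E', x ∈ W ↔ A.π x.1 = B.π x.2 := fun _ => Iff.rfl
  let f : W →* E := (MonoidHom.fst E E').comp W.subtype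
  let g : W →* E' := (MonoidHom.snd E E').comp W.subtype
  have hf : Function.Surjective f := fun a => by
    obtain ⟨b, hb⟩ := B.surj (A.π a)
    exact ⟨⟨(a, b), hb.symm⟩, rfl⟩
  have hg : Function.Surjective g := fun b => by
    obtain ⟨a, ha⟩ := A.surj (B.π b)
    exact ⟨⟨(a, b), ha⟩, rfl⟩
  let s0 : L →* W := (A.s.prod B.s).codRestrict W fun n => (A.sec n).trans (B.sec n).symm
  have hcj : ∀ {q : ℕ} {φ : L → ℂ} {E : Type} [Group E] (A : Cover q L φ E) (x : E) (n : L),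
      x * A.s n * x⁻¹ = A.s ⟨A.π x * n * (A.π x)⁻¹, hL.conj_mem n n.2 _⟩ := by
    intro q φ E _ A x n
    obtain ⟨m, hm⟩ := A.normal.conj_mem _ ⟨n, rfl⟩ x
    rw [← hm]
    congr 1
    apply Subtype.ext
    rw [← A.sec m, hm, map_mul, map_mul, map_inv, A.sec]
  refine ⟨W, inferInstance, inferInstance, ⟨A.π.comp f, s0.comp e.symm.toMonoidHom, A.surj.comp hf, ?_,
    fun n => A.sec _, ⟨?_⟩, ?_⟩, A.ψ ∘ f, B.ψ ∘ g, isIrr_comp f hf A.irr, isIrr_comp g hg B.irr, fun n => ?_,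
    fun n => ?_⟩
  · intro x hx
    have h1 : A.π x.1.1 = 1 := hx
    have h2 : B.π x.1.2 = 1 := ((hW _).1 x.2).symm.trans h1
    exact Subgroup.mem_center_iff.2 fun y => Subtype.ext (Prod.ext
      (Subgroup.mem_center_iff.1 (A.ker_le h1) _) (Subgroup.mem_center_iff.1 (B.ker_le h2) _))
  · rintro _ ⟨n, rfl⟩ x
    refine ⟨e ⟨A.π x.1.1 * e.symm n * (A.π x.1.1)⁻¹, hL.conj_mem _ (e.symm n).2 _⟩, Subtype.ext (Prod.ext ?_ ?_)⟩
    · exact (congrArg A.s (e.symm_apply_apply _)).trans (hcj A x.1.1 (e.symm n)).symm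
    · refine (congrArg B.s (e.symm_apply_apply _)).trans (Eq.trans ?_ (hcj B x.1.2 (e.symm n)).symm)
      congr 2
      rw [(hW _).1 x.2]
  · intro a b hab
    exact e.symm.injective (A.s_injective (congrArg (fun x : W => x.1.1) hab))
  · exact (A.ext _).trans (congrArg _ (e.apply_symm_apply n))
  · exact (B.ext _).trans (congrArg _ (e.apply_symm_apply n))

end TQ

open Cfsg Cfsg.Agent Cfsg.Agent.TID.Red

/-- **Box TQ.** -/
theorem boxTQ {p : ℕ} [hp : Fact p.Prime] : BoxTQ p := by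
  intro G _ _ N hN T hT θ ψ hθ hψ ⟨X, m, hX, hm, hXN⟩ ⟨X', m', hX', hm', hXN'⟩ hR h1 χ ho
  obtain ⟨W, _, _, C, Θ, Ψ, hΘ, hΨ, h, h'⟩ := TQ.exists_dat (Subgroup.subgroupOfEquivOfLe hT) θ ψ
    (fun g n => hθ g g.2 _ _ rfl) (fun g n => hψ g g.2 _ _ rfl)
  obtain ⟨c, hc⟩ := TB.exists_om ⟨Θ, hΘ⟩
  obtain ⟨c', hc'⟩ := TB.exists_om ⟨Ψ, hΨ⟩
  obtain ⟨l, hl, hl'⟩ := TQ.exists_ext (S := C.s.range) ((c * c'⁻¹).comp (Subgroup.inclusion C.cen)) fun q hq => by
    by_cases hpq : p = q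
    · obtain ⟨δ, e, he, h2, h3⟩ := TQ.det_p C θ.2 hΘ h hm hX hXN hc
      obtain ⟨δ', e', he', h2', h3'⟩ := TQ.det_p C ψ.2 hΨ h' hm' hX' hXN' hc'
      refine ⟨(δ ^ e')⁻¹ * δ' ^ e, e * e', fun hd => ?_, fun x hx => ?_, fun u _ => ?_⟩
      · rcases (Nat.Prime.dvd_mul hq).1 hd with h4 | h4
        exacts [he (hpq ▸ h4), he' (hpq ▸ h4)]
      · simp [h2 x hx, h2' x hx]
      · change (δ u ^ e')⁻¹ * δ' u ^ e = (c ⟨u, C.cen u.2⟩ * (c' ⟨u, C.cen u.2⟩)⁻¹) ^ (e * e')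
        rw [h3, h3', mul_pow, ← pow_mul, ← pow_mul, inv_pow, inv_inv, mul_comm e']
    · refine TQ.det_q C θ.2 hΘ h hp.out hq hpq ψ.2 hΨ h' h1 hc hc' fun R s hs hn hi => ?_
      refine hR R (T.subtype.comp (C.π.comp R.subtype)) s ?_ (fun n => ?_) hn (fun x hx => ?_) hi
      · rintro _ ⟨x, rfl⟩
        exact (C.π x).2
      · change ((C.π (s n) : T) : G) = n
        rw [hs, C.sec]
        rfl
      · have h2 : (x : W) ∈ C.π.ker := Subtype.ext hx
        exact Subgroup.mem_center_iff.2 fun y => Subtype.ext (Subgroup.mem_center_iff.1 (C.cen h2) y)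
  exact TQ.pass C θ.2 hΘ h ψ.2 hΨ h' h1 hc hc' hl hl' χ ho

end Cfsg.Agent.BH.RZ
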