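import Cfsg.Agent.BH.RZ.Defs
import Cfsg.Agent.S4816
import Cfsg.Agent.H595.Central
import Cfsg.Agent.OddOrderCharacters.PF9.CliffGen
import Cfsg.Agent.OddOrderCharacters.PrimeTI
import Mathlib.GroupTheory.SemidirectProduct

/-!
# BH, box RZ: `boxVG` (helper29)
-/

set_option autoImplicit false

namespace Cfsg.Agent.BH.RZ

open Cfsg Cfsg.Agent.TID.Red Cfsg.Agent.KM.BK Subgroup SemidirectProduct Cfsg.Agent.Characters.Core
open Cfsg.Agent.OddOrderCharacters Cfsg.Agent.OddOrderCharacters.PF9.CliffGen Cfsg.Agent.OddOrderCharacters.NormalInduced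
open Cfsg.Agent.H592.Transport (tr)

namespace VG

theorem mul_of_ker {L : Type} [Group L] [Finite L] {χ : L → ℂ} (hχ : IsCharacter L χ) {k : L} (hk : χ k = χ 1) (x : L) :
    χ (x * k) = χ x := by
  obtain ⟨n, ρ, rfl⟩ := hχ
  have h1 : ρ k = LinearMap.id := by
    rw [← Characters.Values.character_eq_finrank_iff, hk, Representation.char_one]
  change LinearMap.trace ℂ _ (ρ (x * k)) = LinearMap.trace ℂ _ (ρ x)
  rw [map_mul, h1]
  rfl

variable {G V : Type} [Group G] [Group V] (T : Subgroup G) (φ : G →* MulAut V)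

/-- the semidirect product -/
abbrev X : Type := V ⋊[φ.comp T.subtype] T

/-- the projection -/
def pr : X T φ →* G := T.subtype.comp rightHom

variable {T} {N : Subgroup G} (hT : N ≤ T)

/-- the section over `N` -/
def sc : N →* X T φ := inr.comp (inclusion hT)

variable {φ}

theorem cj_inl (hV : IsMulCommutative V) (x : X T φ) (v : V) : x * inl v * x⁻¹ = inl (φ (pr T φ x) v) := by
  have h : inl (φ (pr T φ x) v) = inr x.right * inl v * inr x.right⁻¹ := inl_aut (φ := φ.comp T.subtype) x.right v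
  conv_lhs => rw [← inl_left_mul_inr_right x]
  rw [show inl x.left * inr x.right * inl v * (inl x.left * inr x.right : X T φ)⁻¹ =
    inl x.left * (inr x.right * inl v * (inr x.right)⁻¹) * (inl x.left)⁻¹ by group, ← map_inv, ← h, ← map_mul,
    hV.is_comm.comm, map_mul, mul_inv_cancel_right]

theorem cj_sc [N.Normal] (hφ : N ≤ φ.ker) (x : X T φ) (n : N) :
    x * sc φ hT n * x⁻¹ = sc φ hT (MulAut.conjNormal (pr T φ x) n) := by
  have h : ∀ n : N, inl x.left * sc φ hT n = sc φ hT n * inl x.left := fun n => by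
    have := inl_aut (φ := φ.comp T.subtype) (inclusion hT n) x.left
    rw [show (φ.comp T.subtype) (inclusion hT n) = 1 from hφ n.2, map_inv, eq_mul_inv_iff_mul_eq] at this
    exact this
  conv_lhs => rw [← inl_left_mul_inr_right x]
  rw [show inl x.left * inr x.right * sc φ hT n * (inl x.left * inr x.right : X T φ)⁻¹ =
    inl x.left * (inr x.right * sc φ hT n * (inr x.right)⁻¹) * (inl x.left)⁻¹ by group, mul_inv_eq_iff_eq_mul, ← h]
  congr 1
  rw [sc, MonoidHom.comp_apply, ← map_inv, ← map_mul, ← map_mul]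
  rfl

variable [Finite G] [Finite V] {p : ℕ} [Fact p.Prime]

theorem deg (hV : IsMulCommutative V) (hφ : N ≤ φ.ker) {θ : IrrCharacter N}
    (h : ∀ μ : V →* ℂˣ, ¬ p ∣ (stb φ μ).relIndex T ∧ ∀ (h : N ≤ T ⊓ stb φ μ) (χ : IrrCharacter (T ⊓ stb φ μ : Subgroup G)),
      Ov (inclusion h) (χ : (T ⊓ stb φ μ : Subgroup G) → ℂ) (θ : N → ℂ) → nu p χ = nu p θ)
    (χ : IrrCharacter (X T φ)) (h1 : ∀ n, (χ : X T φ → ℂ) (sc φ hT n) * (θ : N → ℂ) 1 = (χ : X T φ → ℂ) 1 * (θ : N → ℂ) n) :
    nu p χ = nu p θ := by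
  have : Finite (X T φ) := Finite.of_equiv _ equivProd.symm
  have := Fintype.ofFinite (X T φ)
  have := Fintype.ofFinite N
  let U : Subgroup (X T φ) := (rightHom : X T φ →* T).ker
  have := Fintype.ofFinite U
  let j : V →* U := inl.codRestrict U rightHom_inl
  have hj : ∀ u : U, j u.1.left = u := fun u => Subtype.ext (SemidirectProduct.ext rfl (u.2 : u.1.right = 1).symm)
  obtain ⟨l, hl⟩ := exists_ov U.subtype χ.2
  obtain ⟨lam, e⟩ := PrimeTI.exists_hom_of_comm
    ⟨⟨fun a b => by rw [← hj a, ← hj b, ← map_mul, hV.is_comm.comm, map_mul]⟩⟩ l.2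
  rw [ov_iff, e] at hl
  let I : Subgroup (X T φ) := (stb φ (lam.comp j)).comap (pr T φ)
  have := Fintype.ofFinite I
  have k1 : ∀ (g : X T φ) (v : V), conjFn U (fun n => (lam n : ℂ)) g (j v) = lam (j (φ (pr T φ g) v)) := fun g v =>
    congrArg (fun u => (lam u : ℂ)) (Subtype.ext (cj_inl hV g v))
  have hI : ∀ g, g ∈ I ↔ conjFn U (fun n => (lam n : ℂ)) g = fun n => (lam n : ℂ) := fun g =>
    ⟨fun hg => funext fun u => by rw [← hj u, k1]; exact congrArg Units.val (hg _),
      fun hg v => Units.ext ((k1 g v).symm.trans (congrFun hg _))⟩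
  have hU : U ≤ I := fun u hu v => by
    rw [show pr T φ u = 1 from congrArg Subtype.val hu, map_one, MulAut.one_apply]
  let F : I →* ℂˣ := MonoidHom.mk' (fun x => lam (j x.1.left)) fun x y => by
    rw [← show lam (j (φ (pr T φ x) y.1.left)) = lam (j y.1.left) from x.2 _, ← map_mul, ← map_mul]
    rfl
  obtain ⟨ψ, k2, k3, k4⟩ := exists_twist (F := F) hI hU (fun u => congrArg lam (hj u)) χ.2 hl
  let f : I →* (T ⊓ stb φ (lam.comp j) : Subgroup G) := ((pr T φ).comp I.subtype).codRestrict _ fun x => ⟨x.1.right.2, x.2⟩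
  obtain ⟨β, hβ⟩ := H595.Central.descend f (fun t => ⟨⟨inr ⟨t, t.2.1⟩, t.2.2⟩, rfl⟩) ⟨ψ, k2⟩ fun x k hk =>
    mul_of_ker (isIrr_isCharacter k2) (k3 ⟨k, Subtype.ext (show pr T φ k = 1 from congrArg Subtype.val hk)⟩) x
  have hN : N ≤ T ⊓ stb φ (lam.comp j) := fun n hn => ⟨hT hn, fun v => by rw [show φ n = 1 from hφ hn, MulAut.one_apply]⟩
  have k5 := InertiaAbelian.isIrr_mul_hom F k2
  obtain ⟨η, hη⟩ := exists_ov (inclusion hN) β.2
  have k6 : Ov (sc φ hT) (χ : X T φ → ℂ) (η : N → ℂ) :=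
    Ov.trans (ι₁ := (sc φ hT).codRestrict I fun n => (hN n.2).2) (ι₂ := I.subtype) (fun _ => rfl) (isIrr_isCharacter χ.2)
      k5 η.2 ((ov_iff _ _ _).2 (by
        have := IndRes.classInner_indFun_right I (fun t => (F t : ℂ) * ψ t) (isCharacter_isClassFunction (isIrr_isCharacter χ.2))
        rw [← k4, classInner_irr_self χ.2] at this
        exact this.symm.trans_ne one_ne_zero))
      (hη.congr fun n => by
        rw [show F _ = 1 from (congrArg lam (map_one j)).trans (map_one lam), Units.val_one, one_mul]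
        exact (hβ _).symm)
  obtain rfl : θ = η := by_contra fun e => (ov_iff _ _ _).1 k6 (by
    rw [show (fun n => (χ : X T φ → ℂ) (sc φ hT n)) = ((χ : X T φ → ℂ) 1 / (θ : N → ℂ) 1) • (θ : N → ℂ) from funext fun n => by
      rw [Pi.smul_apply, smul_eq_mul, div_mul_eq_mul_div, eq_div_iff (isIrr_apply_one_ne_zero θ.2), h1],
      classInner_smul_left, classInner_irr_ne θ.2 η.2 fun e' => e (Subtype.ext e'), mul_zero])
  have k7 : charDegree (χ : X T φ → ℂ) = (stb φ (lam.comp j)).relIndex T * charDegree β.1 := by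
    have h2 := IndRes.indFun_apply_one I fun t => (F t : ℂ) * ψ t
    rw [← k4, map_one, Units.val_one, one_mul, ← show β.1 1 = ψ 1 from map_one f ▸ hβ 1, Blocks.Basic.irr_one_eq_charDegree χ.2,
      Blocks.Basic.irr_one_eq_charDegree β.2, index_comap, pr, MonoidHom.range_comp,
      MonoidHom.range_eq_top.2 rightHom_surjective, ← MonoidHom.range_eq_map, range_subtype] at h2
    exact_mod_cast h2
  have k8 := KM.Mu.fac_mul (p := p) k7.symm (Blocks.Basic.charDegree_pos χ.2).ne'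
  rw [Nat.factorization_eq_zero_of_not_dvd (h _).1, zero_add] at k8
  exact k8.symm.trans ((h _).2 hN β hη)

end VG

open VG

/-- **[VG]** -/
theorem boxVG {p : ℕ} [Fact p.Prime] : BoxVG p := by
  intro G _ _ N _ T hT θ hθ V _ _ hV hp φ hφ h t ht ⟨k, hk⟩
  have : Finite (X T φ) := Finite.of_equiv _ equivProd.symm
  have := Fintype.ofFinite (X T φ)
  let S := (sc φ hT).range
  have := Fintype.ofFinite S
  have : S.Normal := ⟨fun _ ⟨n, e⟩ x => ⟨_, e ▸ (cj_sc hT hφ x n).symm⟩⟩
  let e : N ≃* S := MonoidHom.ofInjective (inr_injective.comp (inclusion_injective hT))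
  have h1 : ∀ (g : X T φ) (n n' : S), (n' : X T φ) = g * n * g⁻¹ → (tr e.symm θ : S → ℂ) n' = (tr e.symm θ : S → ℂ) n := by
    rintro g n n' h1
    obtain ⟨n, rfl⟩ := e.surjective n
    obtain rfl : n' = e (MulAut.conjNormal (pr T φ g) n) := Subtype.ext (h1.trans (cj_sc hT hφ g n))
    simpa only [H592.Transport.tr_apply, MulEquiv.symm_apply_apply] using hθ _ g.right.2 n _ rfl
  have hU : (inl.range : Subgroup (X T φ)).Normal := by
    rw [range_inl_eq_ker_rightHom]
    infer_instance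
  have : ((inl.range : Subgroup (X T φ)).map (QuotientGroup.mk' S)).Normal := hU.map _ (QuotientGroup.mk'_surjective S)
  obtain ⟨Q, hQ⟩ := IsPGroup.exists_le_sylow (IsPGroup.to_sup_of_normal_left
    (H := (inl.range : Subgroup (X T φ)).map (QuotientGroup.mk' S)) (K := zpowers (QuotientGroup.mk' S (inr ⟨t, ht⟩)))
    ((hp.of_surjective _ inl.rangeRestrict_surjective).map _) fun ⟨x, i, hi⟩ => ⟨k, Subtype.ext (by
      have h2 : QuotientGroup.mk' S (inr ⟨t, ht⟩) ^ p ^ k = 1 := by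
        rw [← map_pow, ← map_pow]
        exact (QuotientGroup.eq_one_iff _).2 ⟨⟨_, hk⟩, rfl⟩
      change x ^ p ^ k = 1
      rw [← hi, ← zpow_natCast, ← zpow_mul, mul_comm, zpow_mul, zpow_natCast, h2, one_zpow])⟩)
  have h2 := S4816.result p S (tr e.symm θ) h1 (fun χ hχ => (deg hT hV hφ h χ fun n => by
    have h2 := res_of_invariant (tr e.symm θ).2 (fun g => funext fun n => h1 g n _ rfl) χ.2 hχ (e n)
    rwa [H592.Transport.tr_apply, H592.Transport.tr_apply, MulEquiv.symm_apply_apply, map_one] at h2).trans (congrArg (·.factorization p) (charDegree_tr _ _).symm)) Q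
  ext v
  have h3 := congrArg Subtype.val (h2.is_comm.comm ⟨_, hQ (mem_sup_right (mem_zpowers _))⟩
    ⟨_, hQ (mem_sup_left (mem_map_of_mem _ ⟨v, rfl⟩))⟩)
  obtain ⟨n, hn⟩ : inr ⟨t, ht⟩ * inl v * (inr ⟨t, ht⟩)⁻¹ * (inl v)⁻¹ ∈ S := (QuotientGroup.eq_one_iff _).1 (by
    simp only [QuotientGroup.mk_mul, QuotientGroup.mk_inv]
    rw [mul_inv_eq_one, mul_inv_eq_iff_eq_mul]
    exact h3)
  rw [cj_inl hV, ← map_inv, ← map_mul] at hn
  exact mul_inv_eq_one.1 (congrArg SemidirectProduct.left hn).symm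

end Cfsg.Agent.BH.RZ
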