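import Cfsg.Agent.BH.Defs

/-!
# BH, box RZ: the sub-boxes (helper77)

`BoxRZ` follows from `BoxRG` (the regular case) and `BoxAC`; `BoxRG` follows from `BoxSA`, `BoxTQ`, `BoxVG`.
Recipes: `notes/BH/rz.md`.
-/

set_option autoImplicit false

namespace Cfsg.Agent.BH.RZ

open Cfsg Cfsg.Agent.TID.Red Cfsg.Agent.KM.BK Cfsg.Agent.TO

/-- the linear character `l` of `Q` is invariant under `H` -/
def Inv {G : Type} [Group G] (Q H : Subgroup G) (l : Q →* ℂˣ) : Prop :=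
  ∀ h ∈ H, ∀ u v : Q, (v : G) = h * u * h⁻¹ → l v = l u

/-- `χ'` is the conjugate `n ↦ χ (h n h⁻¹)` -/
def Cj {G : Type} [Group G] (N : Subgroup G) (h : G) (χ χ' : N → ℂ) : Prop :=
  ∀ n n' : N, (n' : G) = h * n * h⁻¹ → χ' n = χ n'

/-- in every central cover of index prime to `p` over `N` with image in `T`, an extension of `θ` gives an extension
of `ψ` with the same values on the `p`-regular elements -/
def Rel (p : ℕ) {G : Type} [Group G] (N T : Subgroup G) (θ ψ : N → ℂ) : Prop :=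
  ∀ (W : Type) [Group W] [Finite W] (π : W →* G) (s : N →* W), π.range ≤ T → (∀ n, π (s n) = n) →
    s.range.Normal → π.ker ≤ Subgroup.center W → ¬ p ∣ s.range.index → ∀ ξ : W → ℂ, IsIrrCharacter W ξ →
      (∀ n, ξ (s n) = θ n) → ∃ ξ' : W → ℂ, IsIrrCharacter W ξ' ∧ (∀ n, ξ' (s n) = ψ n) ∧
        ∀ w, ¬ p ∣ orderOf w → ξ' w = ξ w

/-- the action of the invariant linear characters of the defect group on the block -/
structure SAct (p : ℕ) {G : Type} [Group G] (N : Subgroup G) (b : Set (IrrCharacter N)) (Q : Subgroup G)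
    (θ : G → ℂ) (act : (Q →* ℂˣ) → IrrCharacter N → IrrCharacter N) : Prop where
  mem : ∀ l, Inv Q (In Q θ ⊓ N) l → ∀ χ ∈ b, act l χ ∈ b
  one : ∀ χ ∈ b, act 1 χ = χ
  mul : ∀ l l', Inv Q (In Q θ ⊓ N) l → Inv Q (In Q θ ⊓ N) l' → ∀ χ ∈ b, act (l * l') χ = act l (act l' χ)
  free : ∀ l, Inv Q (In Q θ ⊓ N) l → ∀ χ ∈ b, act l χ = χ → l = 1
  equi : ∀ h ∈ In Q θ, ∀ l l' : Q →* ℂˣ, Inv Q (In Q θ ⊓ N) l → (∀ u v : Q, (v : G) = h * u * h⁻¹ → l' u = l v) →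
    ∀ χ ∈ b, ∀ χ' : IrrCharacter N, Cj N h (χ : N → ℂ) (χ' : N → ℂ) →
      Cj N h (act l χ : N → ℂ) (act l' χ' : N → ℂ)
  rel : ∀ T : Subgroup G, N ≤ T → ∀ l, Inv Q (In Q θ ⊓ T) l → ∀ χ ∈ b,
    Rel p N T (χ : N → ℂ) (act l χ : N → ℂ)

/-- [SA] -/
def BoxSA (p : ℕ) (M : Ideal AlgInt) : Prop :=
  ∀ (G : Type) [Group G] [Finite G] (N : Subgroup G) [N.Normal] (b : Set (IrrCharacter N)) (Q : Subgroup G)
    (θ : G → ℂ), Root p M N b Q θ → EQ p b → ∃ act, SAct p N b Q θ act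

/-- a multiple prime to `p` of `θ` is the restriction of a character of `T` -/
def Mult (p : ℕ) {G : Type} [Group G] (N T : Subgroup G) (θ : N → ℂ) : Prop :=
  ∃ (χ : G → ℂ) (m : ℕ), IsCharacter T (fun t => χ t) ∧ ¬ p ∣ m ∧ ∀ n : N, χ n = m * θ n

/-- [TQ] two character triples with the same degrees -/
def BoxTQ (p : ℕ) : Prop :=
  ∀ (G : Type) [Group G] [Finite G] (N : Subgroup G) [N.Normal] (T : Subgroup G) (hT : N ≤ T)
    (θ ψ : IrrCharacter N), (∀ t ∈ T, Fixes N t (θ : N → ℂ)) → (∀ t ∈ T, Fixes N t (ψ : N → ℂ)) →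
    Mult p N T (θ : N → ℂ) → Mult p N T (ψ : N → ℂ) → Rel p N T (θ : N → ℂ) (ψ : N → ℂ) →
    (ψ : N → ℂ) 1 = (θ : N → ℂ) 1 →
    ∀ χ : IrrCharacter T, Ov (Subgroup.inclusion hT) (χ : T → ℂ) (θ : N → ℂ) →
      ∃ χ' : IrrCharacter T, Ov (Subgroup.inclusion hT) (χ' : T → ℂ) (ψ : N → ℂ) ∧
        (χ' : T → ℂ) 1 = (χ : T → ℂ) 1

/-- the stabiliser of a linear character -/
def stb {G V : Type} [Group G] [Group V] (φ : G →* MulAut V) (μ : V →* ℂˣ) : Subgroup G where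
  carrier := {g | ∀ v, μ (φ g v) = μ v}
  one_mem' := fun v => by simp
  mul_mem' := fun {a b} ha hb v => by rw [map_mul, MulAut.mul_apply, ha, hb]
  inv_mem' := fun {a} ha v => by rw [← ha, ← MulAut.mul_apply, ← map_mul, mul_inv_cancel, map_one, MulAut.one_apply]

/-- [VG] S4816 in the semidirect product -/
def BoxVG (p : ℕ) : Prop :=
  ∀ (G : Type) [Group G] [Finite G] (N : Subgroup G) [N.Normal] (T : Subgroup G), N ≤ T →
    ∀ θ : IrrCharacter N, (∀ t ∈ T, Fixes N t (θ : N → ℂ)) →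
    ∀ (V : Type) [Group V] [Finite V], IsMulCommutative V → IsPGroup p V → ∀ φ : G →* MulAut V, N ≤ φ.ker →
      (∀ μ : V →* ℂˣ, ¬ p ∣ (stb φ μ).relIndex T ∧ ∀ (h : N ≤ T ⊓ stb φ μ)
        (χ : IrrCharacter (T ⊓ stb φ μ : Subgroup G)),
          Ov (Subgroup.inclusion h) (χ : (T ⊓ stb φ μ : Subgroup G) → ℂ) (θ : N → ℂ) → nu p χ = nu p θ) →
      ∀ t ∈ T, (∃ k : ℕ, t ^ p ^ k ∈ N) → φ t = 1

/-- [RG] the regular case -/
def BoxRG (p : ℕ) (M : Ideal AlgInt) : Prop :=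
  ∀ (G : Type) [Group G] [Finite G] (N : Subgroup G) [N.Normal] (b : Set (IrrCharacter N)) (Q : Subgroup G)
    (θ : G → ℂ), Root p M N b Q θ → EQ p b → N ⊔ In Q θ = ⊤ →
    (∀ ψ ∈ b, ∀ χ : IrrCharacter G, Ov N.subtype (χ : G → ℂ) (ψ : N → ℂ) → nu p χ = nu p ψ) →
    ∀ D : Subgroup G, IsPGroup p D → D ≤ N ⊔ (In Q θ ⊓ Ce (Zr N Q θ))

/-- [AC] a defect group which centralizes its intersection with `N` is abelian -/
def BoxAC (p : ℕ) (M : Ideal AlgInt) : Prop := IsPModular p M → KMa p →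
  ∀ (G : Type) [Group G] [Finite G] (N : Subgroup G) [N.Normal] (B : Set (IrrCharacter G)) (D : Subgroup G),
    IsPBlock M B → IsDefectGroup p M B D → EQ p B → IsPBlock M (cov B N) → IHz p M N.index →
      D ≤ Ce (D ⊓ N) → Ab D

end Cfsg.Agent.BH.RZ
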