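import Cfsg.Agent.BH.RZ.Defs
import Cfsg.Agent.BH.HN
import Cfsg.Agent.BH.Cmp.A
import Cfsg.Agent.TO.Can2
import Cfsg.Agent.TO.CovA

/-!
# BH, box RD: the subgroups `N C_H(Q)`, `N C_H(Z)`; a root below a root (helper52)

* `Kk`, `Ss` : the two subgroups; they do not depend on the root and are normal;
* `cov_of_stab`, `cov_sub`, `root_sub` : transport to a subgroup which contains `N`;
* `below` : a root for `K` is fixed only by elements which fix a root for `N`.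
-/

set_option autoImplicit false
set_option linter.style.haveILetI false
set_option linter.unusedSectionVars false

namespace Cfsg.Agent.BH.RZ.RD

open Cfsg Cfsg.Agent Cfsg.Agent.Characters.Core Cfsg.Agent.Blocks Cfsg.Agent.TID.Red Cfsg.Agent.KM.BK Cfsg.Agent.TO
open Cfsg.Agent.H591.Reynolds (IsStab)
open Cfsg.Agent.H592.Transport (tr tr_apply trSet tr_mem_trSet mem_trSet isPBlock_trSet)

section grp

variable {G : Type} [Group G] {N Q Q' A A' C C' H T : Subgroup G} {θ θ' : G → ℂ} {x : G}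

/-- `N C_H(Q)` -/
abbrev Kk (N Q : Subgroup G) (θ : G → ℂ) : Subgroup G := N ⊔ (In Q θ ⊓ Ce Q)

/-- `N C_H(Z)` -/
abbrev Ss (N Q : Subgroup G) (θ : G → ℂ) : Subgroup G := N ⊔ (In Q θ ⊓ Ce (Zr N Q θ))

/-- `A' = x⁻¹ A x` -/
def Rl (x : G) (A A' : Subgroup G) : Prop := ∀ y, x * y * x⁻¹ ∈ A ↔ y ∈ A'

theorem Rl.symm (h : Rl x A A') : Rl x⁻¹ A' A := fun y => by
  rw [← h]
  exact iff_of_eq (congrArg (· ∈ A) (by group))

theorem Rl.inf (h : Rl x A A') (h' : Rl x C C') : Rl x (A ⊓ C) (A' ⊓ C') := fun y => and_congr (h y) (h' y)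

theorem Rl.ce0 (h : Rl x A A') {y : G} (hy : y ∈ Ce A') : x * y * x⁻¹ ∈ Ce A := fun a ha => by
  have h1 : x⁻¹ * a * x⁻¹⁻¹ * y = y * (x⁻¹ * a * x⁻¹⁻¹) := hy _ ((h.symm a).2 ha)
  calc a * (x * y * x⁻¹) = x * (x⁻¹ * a * x⁻¹⁻¹ * y) * x⁻¹ := by group
    _ = x * y * x⁻¹ * a := by rw [h1]; group

theorem Rl.ce (h : Rl x A A') : Rl x (Ce A) (Ce A') := fun y =>
  ⟨fun hy => by
    have h1 := h.symm.ce0 hy
    rwa [show x⁻¹ * (x * y * x⁻¹) * x⁻¹⁻¹ = y by group] at h1, h.ce0⟩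

theorem rl_normal (N : Subgroup G) [hN : N.Normal] (x : G) : Rl x N N := fun y =>
  ⟨fun h => by
    have h1 := hN.conj_mem _ h x⁻¹
    rwa [show x⁻¹ * (x * y * x⁻¹) * x⁻¹⁻¹ = y by group] at h1, fun h => hN.conj_mem _ h x⟩

theorem symm_fn (h : ∀ g, θ (x * g * x⁻¹) = θ' g) (g : G) : θ' (x⁻¹ * g * x⁻¹⁻¹) = θ g := by
  rw [← h]
  exact congrArg θ (by group)

theorem in0 (h : Rl x Q Q') (h' : ∀ g, θ (x * g * x⁻¹) = θ' g) {t : G} (ht : t ∈ In Q' θ') :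
    x * t * x⁻¹ ∈ In Q θ := by
  refine Cmp.mem_In_iff.2 ⟨fun y => ?_, fun g => ?_⟩
  · rw [← h.symm y, ← (Cmp.mem_In_iff.1 ht).1, ← h]
    exact iff_of_eq (congrArg (· ∈ Q) (by group))
  · rw [← symm_fn h' g, ← (Cmp.mem_In_iff.1 ht).2, ← h']
    exact congrArg θ (by group)

theorem Rl.in (h : Rl x Q Q') (h' : ∀ g, θ (x * g * x⁻¹) = θ' g) : Rl x (In Q θ) (In Q' θ') := fun y =>
  ⟨fun hy => by
    have h1 := in0 h.symm (symm_fn h') hy
    rwa [show x⁻¹ * (x * y * x⁻¹) * x⁻¹⁻¹ = y by group] at h1, in0 h h'⟩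

theorem Rl.sup_le (h : Rl x A A') (hx : x ∈ N) : N ⊔ A' ≤ N ⊔ A := by
  refine _root_.sup_le le_sup_left fun t ht => ?_
  have h1 : x⁻¹ * (x * t * x⁻¹) * x ∈ N ⊔ A := mul_mem (mul_mem (Subgroup.mem_sup_left (inv_mem hx))
    (Subgroup.mem_sup_right ((h t).2 ht))) (Subgroup.mem_sup_left hx)
  rwa [show x⁻¹ * (x * t * x⁻¹) * x = t by group] at h1

theorem Rl.sup_eq (h : Rl x A A') (hx : x ∈ N) : N ⊔ A' = N ⊔ A :=
  le_antisymm (h.sup_le hx) (h.symm.sup_le (inv_mem hx))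

theorem ce_sub (hQ : Q ≤ T) (t : T) : t ∈ Ce (Q.subgroupOf T) ↔ (t : G) ∈ Ce Q := Cov.mem_Ce_sub hQ

theorem in_sub (hQ : Q ≤ T) (h0 : ∀ g, g ∉ T → θ g = 0) (t : T) :
    t ∈ In (Q.subgroupOf T) (fun t : T => θ t) ↔ (t : G) ∈ In Q θ := by
  have h1 : ∀ y : G, y ∉ T → (t : G) * y * (t : G)⁻¹ ∉ T := fun y hy h =>
    hy ((mul_mem_cancel_left t.2).1 ((mul_mem_cancel_right (inv_mem t.2)).1 h))
  refine ⟨fun h => Cmp.mem_In_iff.2 ⟨fun y => ?_, fun g => ?_⟩,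
    fun h => Cmp.mem_In_iff.2 ⟨fun y => (Cmp.mem_In_iff.1 h).1 y, fun g => (Cmp.mem_In_iff.1 h).2 g⟩⟩
  · by_cases hy : y ∈ T
    · exact (Cmp.mem_In_iff.1 h).1 ⟨y, hy⟩
    · exact iff_of_false (fun h2 => h1 y hy (hQ h2)) fun h2 => hy (hQ h2)
  · by_cases hy : g ∈ T
    · exact (Cmp.mem_In_iff.1 h).2 ⟨g, hy⟩
    · rw [h0 _ hy, h0 _ (h1 g hy)]

variable [hN : N.Normal]

theorem Rl.zr (h : Rl x Q Q') (h' : ∀ g, θ (x * g * x⁻¹) = θ' g) : Rl x (Zr N Q θ) (Zr N Q' θ') :=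
  h.inf ((h.in h').inf (rl_normal N x)).ce

theorem normal_of (hH : N ⊔ H = ⊤) (h : ∀ x ∈ H, Rl x A A) : (N ⊔ A).Normal := ⟨fun k hk g => by
  obtain ⟨n, hn, a, ha, rfl⟩ := Subgroup.mem_sup_of_normal_left.1 hk
  obtain ⟨m, hm, y, hy, rfl⟩ := Subgroup.mem_sup_of_normal_left.1 (hH ▸ Subgroup.mem_top g : g ∈ N ⊔ H)
  rw [show m * y * (n * a) * (m * y)⁻¹ = m * (y * n * y⁻¹) * (y * a * y⁻¹) * m⁻¹ by group]
  exact mul_mem (mul_mem (Subgroup.mem_sup_left (mul_mem hm (hN.conj_mem _ hn y)))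
    (Subgroup.mem_sup_right ((h y hy a).2 ha))) (Subgroup.mem_sup_left (inv_mem hm))⟩

theorem normal_K (hH : N ⊔ In Q θ = ⊤) : (Kk N Q θ).Normal :=
  normal_of hH fun _ hx => (Rl.in hx.1 hx.2).inf (Rl.ce hx.1)

theorem normal_S (hH : N ⊔ In Q θ = ⊤) : (Ss N Q θ).Normal :=
  normal_of hH fun _ hx => (Rl.in hx.1 hx.2).inf (Rl.zr hx.1 hx.2).ce

omit hN in
theorem K_le_S : Kk N Q θ ≤ Ss N Q θ :=
  sup_le_sup_left (inf_le_inf_left _ fun _ h z hz => h z hz.1) _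

theorem K_in {k : G} (hk : k ∈ Kk N Q θ) (h : k ∈ In Q θ) : k ∈ Ce (Zr N Q θ) := by
  obtain ⟨n, hn, c, hc, rfl⟩ := Subgroup.mem_sup_of_normal_left.1 hk
  exact mul_mem (fun z hz => (hz.2 n ⟨(mul_mem_cancel_right (H := In Q θ) hc.1).1 h, hn⟩).symm) fun z hz => hc.2 z hz.1

theorem K_sub (hNT : N ≤ T) (hQ : Q ≤ N) (h0 : ∀ g, g ∉ N → θ g = 0) :
    Kk (N.subgroupOf T) (Q.subgroupOf T) (fun t : T => θ t) = (Kk N Q θ).subgroupOf T := by
  have h1 := in_sub (hQ.trans hNT) (θ := θ) fun g hg => h0 g fun h => hg (hNT h)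
  refine le_antisymm (sup_le (fun n hn => Subgroup.mem_sup_left (S := N) hn) fun t ht =>
    Subgroup.mem_sup_right (S := N) ⟨(h1 t).1 ht.1, (ce_sub (hQ.trans hNT) t).1 ht.2⟩) fun t ht => ?_
  obtain ⟨n, hn, c, hc, h2⟩ := Subgroup.mem_sup_of_normal_left.1 (show (t : G) ∈ Kk N Q θ from ht)
  have h3 : c ∈ T := (mul_mem_cancel_left (hNT hn)).1 (h2 ▸ t.2)
  rw [show t = ⟨n, hNT hn⟩ * ⟨c, h3⟩ from Subtype.ext h2.symm]
  exact mul_mem (Subgroup.mem_sup_left hn) (Subgroup.mem_sup_right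
    ⟨(h1 ⟨c, h3⟩).2 hc.1, (ce_sub (hQ.trans hNT) ⟨c, h3⟩).2 hc.2⟩)

omit hN in
theorem S_sub (hNT : N ≤ T) (hQ : Q ≤ N) (h0 : ∀ g, g ∉ N → θ g = 0) :
    Ss (N.subgroupOf T) (Q.subgroupOf T) (fun t : T => θ t) ≤ (Ss N Q θ).subgroupOf T := by
  have h1 := in_sub (hQ.trans hNT) (θ := θ) fun g hg => h0 g fun h => hg (hNT h)
  refine sup_le (fun n hn => Subgroup.mem_sup_left (S := N) hn) fun t ht =>
    Subgroup.mem_sup_right (S := N) ⟨(h1 t).1 ht.1, fun z hz => ?_⟩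
  exact congrArg Subtype.val (ht.2 ⟨z, hNT (hQ hz.1)⟩
    ⟨hz.1, fun s hs => Subtype.ext (hz.2 s ⟨(h1 s).1 hs.1, hs.2⟩)⟩)

end grp

section root

variable {p : ℕ} [Fact p.Prime] {M : Ideal AlgInt} {G : Type} [Group G] [Finite G] {N Q Q' T : Subgroup G}
  {b : Set (IrrCharacter N)} {θ θ' : G → ℂ}

theorem ceN (r : Root p M N b Q θ) {n : G} (hn : n ∈ N) (h : n ∈ Ce Q) : n ∈ In Q θ :=
  (in_sub r.le r.zero ⟨n, hn⟩).1 (Cov.ce_le_In r.can ((ce_sub r.le _).2 h))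

theorem root_sub (hNT : N ≤ T) (r : Root p M N b Q θ) :
    Root p M (N.subgroupOf T) (trSet (Subgroup.subgroupOfEquivOfLe hNT) b) (Q.subgroupOf T) (fun t : T => θ t) := by
  refine ⟨fun x hx => r.le hx, fun g hg => r.zero g hg, ?_⟩
  have h1 := r.can.map (Subgroup.subgroupOfEquivOfLe hNT).symm
  have h2 : H649.blkMap (Subgroup.subgroupOfEquivOfLe hNT).symm b = trSet (Subgroup.subgroupOfEquivOfLe hNT) b :=
    Set.ext fun _ => H649.mem_blkMap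
  have h3 : (Q.subgroupOf N).map (Subgroup.subgroupOfEquivOfLe hNT).symm.toMonoidHom =
      (Q.subgroupOf T).subgroupOf (N.subgroupOf T) := Subgroup.ext fun _ => Subgroup.mem_map_equiv
  rw [h2, h3] at h1
  exact h1

variable [hN : N.Normal]

theorem root_conj (r : Root p M N b Q θ) (r' : Root p M N b Q' θ') :
    ∃ x ∈ N, Rl x Q Q' ∧ ∀ g, θ (x * g * x⁻¹) = θ' g := by
  obtain ⟨x, h1, h2⟩ := r.can.conj r'.can
  refine ⟨x, x.2, fun y => ?_, fun g => ?_⟩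
  · by_cases hy : y ∈ N
    · exact h1 ⟨y, hy⟩
    · exact iff_of_false (fun h => hy ((rl_normal N x y).1 (r.le h))) fun h => hy (r'.le h)
  · by_cases hy : g ∈ N
    · exact h2 ⟨g, hy⟩
    · rw [r'.zero _ hy, r.zero _ fun h => hy ((rl_normal N x g).1 h)]

theorem K_eq (r : Root p M N b Q θ) (r' : Root p M N b Q' θ') : Kk N Q' θ' = Kk N Q θ := by
  obtain ⟨x, hx, h1, h2⟩ := root_conj r r'
  exact ((h1.in h2).inf h1.ce).sup_eq hx

theorem S_eq (r : Root p M N b Q θ) (r' : Root p M N b Q' θ') : Ss N Q' θ' = Ss N Q θ := by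
  obtain ⟨x, hx, h1, h2⟩ := root_conj r r'
  exact ((h1.in h2).inf (h1.zr h2).ce).sup_eq hx

theorem K_ce (r : Root p M N b Q θ) {k : G} (hk : k ∈ Kk N Q θ) (h : k ∈ Ce Q) : k ∈ In Q θ := by
  obtain ⟨n, hn, c, hc, rfl⟩ := Subgroup.mem_sup_of_normal_left.1 hk
  exact mul_mem (ceN r hn ((mul_mem_cancel_right (H := Ce Q) hc.2).1 h)) hc.1

/-- the `p`-elements of `K ∩ H` centralize `Q` -/
theorem K_p (r : Root p M N b Q θ) {x : G} (hx : x ∈ Kk N Q θ) (h : x ∈ In Q θ) {k : ℕ} (hk : x ^ p ^ k = 1) :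
    x ∈ Ce Q := by
  obtain ⟨n, hn, c, hc, h1⟩ := Subgroup.mem_sup_of_normal_left.1 hx
  have h2 : n ∈ In Q θ := (mul_mem_cancel_right (H := In Q θ) hc.1).1 (h1 ▸ h)
  have := Cn.normal_Ce (D := Q) (θ := θ)
  have := Cn.normal_Ce (D := Q.subgroupOf N) (θ := fun n : N => θ n)
  set m := (Ce (Q.subgroupOf N)).relIndex (In (Q.subgroupOf N) fun n : N => θ n) with hm
  have h3 : n ^ m ∈ Ce Q := (ce_sub r.le (⟨n, hn⟩ ^ m)).1
    (Subgroup.pow_index_mem ((Ce (Q.subgroupOf N)).subgroupOf (In (Q.subgroupOf N) fun n : N => θ n))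
      ⟨⟨n, hn⟩, (in_sub r.le r.zero _).2 h2⟩)
  let π := QuotientGroup.mk' ((Ce Q).subgroupOf (In Q θ))
  have h4 : π ⟨x, h⟩ = π ⟨n, h2⟩ := by
    rw [show (⟨x, h⟩ : In Q θ) = ⟨n, h2⟩ * ⟨c, hc.1⟩ from Subtype.ext h1.symm, map_mul,
      show π ⟨c, hc.1⟩ = 1 from (QuotientGroup.eq_one_iff _).2 hc.2, mul_one]
  exact (QuotientGroup.eq_one_iff (N := (Ce Q).subgroupOf (In Q θ)) ⟨x, h⟩).1 (KM.Mu.eq_one_of_coprime (c := π ⟨x, h⟩)
    (k := k) (m := m) (by rw [← map_pow, show (⟨x, h⟩ : In Q θ) ^ p ^ k = 1 from Subtype.ext hk, map_one])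
    (by rw [h4, ← map_pow]; exact (QuotientGroup.eq_one_iff _).2 h3) r.can.idx)

/-- an invariant block is the only block below a block which covers it -/
theorem cov_of_stab (hM : IsPModular p M) {B : Set (IrrCharacter G)} (hB : IsPBlock M B) (hb : IsPBlock M b)
    (hs : IsStab b ⊤) (h : CovH N.subtype B b) : cov B N = b := by
  letI := Fintype.ofFinite G
  letI := Fintype.ofFinite N
  obtain ⟨χ, hχ, φ, hφ, h1⟩ := h
  ext ψ
  constructor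
  · rintro ⟨χ', hχ', h2⟩
    obtain ⟨g, θ', hθ', h3⟩ := S0964.result p M hM N B hB _ hb χ hχ φ hφ ((ov_subtype_iff N _ _).1 h1) χ' hχ' ψ
      ((ov_subtype_iff N _ _).1 h2)
    exact (hs g).1 (Subgroup.mem_top g) θ' hθ' ψ h3
  · intro hψ
    obtain ⟨χ', hχ', h2⟩ := S4432.result p M hM N B hB _ hb ⟨χ, hχ, φ, hφ, (ov_subtype_iff N _ _).1 h1⟩ ψ hψ
    exact ⟨χ', hχ', (ov_subtype_iff N _ _).2 h2⟩

theorem cov_sub (hM : IsPModular p M) (hNT : N ≤ T) {B : Set (IrrCharacter T)} (hB : IsPBlock M B) (hb : IsPBlock M b)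
    (hs : ∀ t ∈ T, StabH N.subtype b t) (h : CovH (Subgroup.inclusion hNT) B b) :
    cov B (N.subgroupOf T) = trSet (Subgroup.subgroupOfEquivOfLe hNT) b ∧ IsPBlock M (cov B (N.subgroupOf T)) ∧
      IsStab (cov B (N.subgroupOf T)) ⊤ := by
  have := Local.isPrime_of_isPModular hM
  have h1 : IsStab (trSet (Subgroup.subgroupOfEquivOfLe hNT) b) ⊤ := isStab_iff.2 fun g => iff_of_true trivial
    ((stabH_src (Subgroup.subgroupOfEquivOfLe hNT) (ι := Subgroup.inclusion hNT) (fun _ => rfl) b g).2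
      ((stabH_comp (j := T.subtype) T.subtype_injective (ι' := N.subtype) (fun _ => rfl) b g).1 (hs g g.2)))
  have h2 := cov_of_stab hM hB (isPBlock_trSet _ hb) h1
    ((covH_src_iff (Subgroup.subgroupOfEquivOfLe hNT) (ι := Subgroup.inclusion hNT) (fun _ => rfl)).2 h)
  rw [h2]
  exact ⟨rfl, isPBlock_trSet _ hb, h1⟩

end root

theorem uniqH {p : ℕ} [Fact p.Prime] {M : Ideal AlgInt} (hM : IsPModular p M) {L H : Type} [Group L] [Group H]
    [Finite L] [Finite H] {ι : L →* H} (hι : Function.Injective ι) (hn : ι.range.Normal) {e : Set (IrrCharacter H)}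
    (he : IsPBlock M e) {r r' : Set (IrrCharacter L)} (hr : IsPBlock M r) (hr' : IsPBlock M r') (h : CovH ι e r)
    (h' : CovH ι e r') (hs : ∀ x, StabH ι r x) : r' = r := by
  have := Local.isPrime_of_isPModular hM
  set f := (MonoidHom.ofInjective hι).symm with hf
  have h1 : ∀ k : ι.range, ι.range.subtype k = ι (f k) := fun k => (MonoidHom.apply_ofInjective_symm hι k).symm
  have h2 := cov_of_stab hM he (isPBlock_trSet f hr)
    (isStab_iff.2 fun g => iff_of_true trivial ((stabH_src f h1 r g).2 (hs g))) ((covH_src_iff f h1).2 h)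
  have h3 := eq_cov (h2 ▸ isPBlock_trSet f hr) (isPBlock_trSet f hr') ((covH_src_iff f h1).2 h')
  rw [← trSet_symm_trSet f r', h3, h2, trSet_symm_trSet]

/-- the canonical character of a given root -/
theorem can_of_ind {p : ℕ} [Fact p.Prime] {M : Ideal AlgInt} (hM : IsPModular p M) {G : Type} [Group G] [Finite G]
    {b : Set (IrrCharacter G)} {D : Subgroup G} (hD : IsDefectGroup p M b D) (hab : D ≤ Ce D)
    {e : Set (IrrCharacter (Ce D))} (h : IsInducedBlock M (Ce D) e b) : ∃ θ, Can p M b D θ ∧ Can.root M D θ = e := by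
  have := hM.2.1.isPrime
  have he := H641.isMaximal_of_induced hM hD h
  obtain ⟨ξ, ⟨h2, h3⟩, -⟩ := (S0968.result p M hM _ he.1.1.1.comap_subtype (Cn.sup_cent_eq_top hab) _ h.1
    (Cn.root_defect hM he hab)).1
  have h4 : ∀ c : Ce D, extendByZero (Ce D) (ξ : Ce D → ℂ) c = (ξ : Ce D → ℂ) c := fun c =>
    extendByZero_of_mem _ _ c.2
  exact ⟨extendByZero (Ce D) ξ, Can.of_tst hM he.1 hD hab ⟨ξ, h2, h4⟩
    (fun d hd => (h4 ⟨d, hab hd⟩).trans ((h3 ⟨d, hab hd⟩ hd).trans (h4 1).symm))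
    fun g hg => extendByZero_of_notMem _ _ hg⟩

section below

variable {p : ℕ} [Fact p.Prime] {M : Ideal AlgInt} {G : Type} [Group G] [Finite G] {N K Q Q₁ : Subgroup G}
  [hN : N.Normal] [hK : K.Normal]

omit [Finite G] in
/-- conjugation on `C_N(Q)` -/
theorem exists_cj (hQ : Q ≤ N) {x : G} (hx : Rl x Q Q) :
    ∃ c : Ce (Q.subgroupOf N) ≃* Ce (Q.subgroupOf N), ∀ k, ((c k : N) : G) = x * (k : N) * x⁻¹ :=
  ⟨{ toFun := fun k => ⟨⟨x * (k : N) * x⁻¹, hN.conj_mem _ k.1.2 x⟩,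
        (ce_sub hQ _).2 (hx.ce0 ((ce_sub hQ _).1 k.2))⟩
     invFun := fun k => ⟨⟨x⁻¹ * (k : N) * x⁻¹⁻¹, hN.conj_mem _ k.1.2 x⁻¹⟩,
        (ce_sub hQ _).2 (hx.symm.ce0 ((ce_sub hQ _).1 k.2))⟩
     left_inv := fun k => Subtype.ext (Subtype.ext (by simp only; group))
     right_inv := fun k => Subtype.ext (Subtype.ext (by simp only; group))
     map_mul' := fun k l => Subtype.ext (Subtype.ext (by simp only [Subgroup.coe_mul]; group)) }, fun _ => rfl⟩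

/-- **A root below a root.** -/
theorem below (hNK : N ≤ K) {c : Set (IrrCharacter K)} {θ₁ : G → ℂ} (r : Root p M K c Q₁ θ₁)
    {b : Set (IrrCharacter N)} (hQ : Q = Q₁ ⊓ N) (hD : IsDefectGroup p M b (Q.subgroupOf N))
    (hu : ∀ β, IsPBlock M β → CovH (Subgroup.inclusion hNK) c β → β = b)
    (hC : ∀ θ, Root p M N b Q θ → K ≤ Kk N Q θ) : ∃ θ, Root p M N b Q θ ∧ In Q₁ θ₁ ≤ In Q θ := by
  have hM := r.can.hM
  have := Local.isPrime_of_isPModular hM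
  have hQN : Q ≤ N := hQ ▸ inf_le_right
  have hQ1 : Q ≤ Q₁ := hQ ▸ inf_le_left
  have hQK : Q ≤ K := hQN.trans hNK
  have hab : Q.subgroupOf N ≤ Ce (Q.subgroupOf N) := fun x hx y hy => Subtype.ext (congrArg (fun z : K => (z : G))
    (r.can.comm ⟨y, hNK y.2⟩ (hQ1 hy) ⟨x, hNK x.2⟩ (hQ1 hx)))
  obtain ⟨e, he, h1⟩ := r.can.loc' (Q := Q.subgroupOf K) (fun x hx => hQ1 hx) rfl
  let lam : Ce (Q.subgroupOf N) →* Ce (Q.subgroupOf K) :=
    ((Subgroup.inclusion hNK).comp (Ce (Q.subgroupOf N)).subtype).codRestrict _ fun x =>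
      (ce_sub hQK _).2 ((ce_sub hQN _).1 x.2)
  have hl : Function.Injective lam := fun x y h => Subtype.ext (Subtype.ext (congrArg (fun z => ((z.1 : K) : G)) h))
  have hr : ∀ h : Ce (Q.subgroupOf K), ((h : K) : G) ∈ N → h ∈ lam.range := fun h hh =>
    ⟨⟨⟨_, hh⟩, (ce_sub hQN _).2 ((ce_sub hQK _).1 h.2)⟩, rfl⟩
  have hn : lam.range.Normal := ⟨by
    rintro _ ⟨l, rfl⟩ g
    exact hr _ (hN.conj_mem _ l.1.2 _)⟩
  obtain ⟨η, hη⟩ := Basic.isPBlock_nonempty he.1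
  obtain ⟨ξ, hξ⟩ := exists_ov lam η.2
  have h2 : CovH lam e (blockOf M (ξ : _ → ℂ)) := ⟨η, hη, ξ, Basic.mem_blockOf_self ξ, hξ⟩
  letI := Fintype.ofFinite N
  obtain ⟨d, hd⟩ := S0919.result p M hM (Q.subgroupOf N) (Ce (Q.subgroupOf N))
    (H592.Defect.isPGroup_of_isDefectGroup hD) hab le_rfl (Subgroup.centralizer_le_normalizer _) _
    (Basic.isPBlock_blockOf ξ)
  rw [hu d hd.2.1 (cov_square hM (mu := (Ce (Q.subgroupOf N)).subtype) (ι := (Ce (Q.subgroupOf K)).subtype)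
    (fun _ => rfl) hl hn (Subgroup.inclusion_injective hNK)
    ⟨by
      rintro _ ⟨l, rfl⟩ g
      exact ⟨⟨_, hN.conj_mem _ l.2 g⟩, rfl⟩⟩
    (by
      rintro h ⟨n, h3⟩
      exact hr h (congrArg Subtype.val h3 ▸ n.2)) hd h2 he)] at hd
  obtain ⟨θ₀, h3, h4⟩ := can_of_ind hM hD hab hd
  have h5 : ∀ n : N, extendByZero N θ₀ n = θ₀ n := fun n => extendByZero_of_mem _ _ n.2
  have r' : Root p M N b Q (extendByZero N θ₀) := ⟨hQN, fun g hg => extendByZero_of_notMem _ _ hg, by rwa [funext h5]⟩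
  rw [← h4] at h2
  have h6 : ∀ y, StabH lam (Can.root M (Q.subgroupOf N) θ₀) y := fun y => by
    have h7 : ((y : K) : G) ∈ In Q (extendByZero N θ₀) := K_ce r' (hC _ r' y.1.2) ((ce_sub hQK _).1 y.2)
    obtain ⟨f, hf⟩ := exists_cj hQN (x := (y : K)) h7.1
    refine (stabH_iff_trSet hl f (fun k => Subtype.ext (Subtype.ext (hf k))) h3.he).2
      (Basic.isPBlock_eq_of_mem (isPBlock_trSet f h3.he) h3.he (tr_mem_trSet.2 h3.chr_mem) ?_)
    rw [show tr f h3.chr = h3.chr from Subtype.ext (funext fun k => by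
      rw [tr_apply, Can.chr_apply, Can.chr_apply, ← h5, ← h5, hf]
      exact h7.2 _)]
    exact h3.chr_mem
  refine ⟨_, r', fun x hx => ?_⟩
  have h7 : Rl x Q Q := hQ ▸ Rl.inf hx.1 (rl_normal N x)
  obtain ⟨f, hf⟩ := exists_cj hQN h7
  obtain ⟨f', hf'⟩ := exists_cj hQK h7
  have h8 : trSet f' e = e := by
    have h9 := h1.le_Stab (x := f') ⟨fun y => by
      change ((f' y : K) : G) ∈ Q₁ ↔ ((y : K) : G) ∈ Q₁
      rw [hf']
      exact hx.1 _, fun y => by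
      change θ₁ ((f' y : K) : G) = θ₁ ((y : K) : G)
      rw [hf']
      exact hx.2 _⟩
    exact Basic.isPBlock_eq_of_mem (isPBlock_trSet f' he.1) he.1 (tr_mem_trSet.2 hη)
      (Cn.coe_mem_Fn.1 ((h9 η).2 (Cn.coe_mem_Fn.2 hη)))
  have h9 := uniqH hM hl hn he.1 h3.he (isPBlock_trSet f h3.he) h2 (h8 ▸ (covH_tr_iff f f'
    (fun k => Subtype.ext (Subtype.ext ((hf' (lam k)).trans (hf k).symm :
      ((f' (lam k) : K) : G) = ((lam (f k) : K) : G))))).2 h2) h6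
  have h10 := h3.eq_chr (ξ := tr f h3.chr) (h9 ▸ tr_mem_trSet.2 h3.chr_mem) fun d hd' => by
    rw [tr_apply, tr_apply, map_one]
    refine h3.triv _ ?_
    change ((f d : N) : G) ∈ Q
    rw [hf]
    exact (h7 _).2 hd'
  refine Cmp.mem_In_iff.2 ⟨h7, fun g => ?_⟩
  by_cases hg : g ∈ N
  · by_cases hg' : g ∈ Ce Q
    · have h11 := congrFun (congrArg Subtype.val h10) ⟨⟨g, hg⟩, (ce_sub hQN _).2 hg'⟩
      rw [tr_apply, Can.chr_apply, Can.chr_apply, ← h5, ← h5, hf] at h11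
      exact h11
    · rw [h5 ⟨g, hg⟩, h5 ⟨_, hN.conj_mem _ hg x⟩, h3.zero ⟨g, hg⟩ fun h => hg' ((ce_sub hQN _).1 h),
        h3.zero _ fun h => hg' ((h7.ce g).1 ((ce_sub hQN _).1 h))]
  · rw [r'.zero _ hg, r'.zero _ fun h => hg ((rl_normal N x g).1 h)]

end below

end Cfsg.Agent.BH.RZ.RD
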