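import Cfsg.Agent.BH.RZ.SA1
import Cfsg.Agent.H608.KKL.Star

/-!
# BH, box SA, part 2: the star construction commutes with restriction (helper77)
-/

set_option autoImplicit false
set_option linter.style.haveILetI false
set_option linter.unusedSectionVars false

namespace Cfsg.Agent.BH.RZ.SA

open Cfsg Cfsg.Agent Cfsg.Agent.TID.Red Cfsg.Agent.TO Cfsg.Agent.Blocks Cfsg.Agent.Characters
open Cfsg.Agent.H649 Cfsg.Agent.H651 Cfsg.Agent.H650 Cfsg.Agent.TO.Can Cfsg.Agent.TO.Cn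

variable {K W : Type} [Group K] [Group W] [Finite K] [Finite W] {ι : K →* W} {p : ℕ} [Fact p.Prime]
  {M : Ideal AlgInt}

theorem idx_eq [M.IsPrime] {a a' : BrauerPairIdx K} (h1 : a.1 = a'.1) (ha : IsPBlock M a.2) (ha' : IsPBlock M a'.2)
    {φ : K → ℂ} (h : Tst a φ) (h' : Tst a' φ) : a = a' := by
  obtain ⟨Q, f⟩ := a
  obtain ⟨Q', f'⟩ := a'
  obtain rfl : Q = Q' := h1
  obtain ⟨ξ, h2, h3⟩ := h
  obtain ⟨ξ', h4, h5⟩ := h'
  obtain rfl : ξ = ξ' := Subtype.ext (funext fun k => (h3 k).symm.trans (h5 k))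
  obtain rfl : f = f' := Basic.isPBlock_eq_of_mem ha ha' h2 h4
  rfl

variable {b : Set (IrrCharacter K)} {Q : Subgroup K} {θ : K → ℂ}

theorem idx_can (h : Can p M b Q θ) (e : K ≃* W) : idxMap e ⟨Q, root M Q θ⟩ =
    ⟨Q.map e.toMonoidHom, root M (Q.map e.toMonoidHom) fun y => θ (e.symm y)⟩ := by
  haveI := h.prime
  refine idx_eq (M := M) rfl (isPBlock_blkMap h.he) (h.map e).he ((idxMap_test e _ _).2 ?_) (h.map e).tst
  simp only [MulEquiv.symm_apply_apply]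
  exact h.tst

theorem idx_LA (h : Can p M b Q θ) {α : MulAut K} (hα : α ∈ LA Q θ) : idxMap α ⟨Q, root M Q θ⟩ = ⟨Q, root M Q θ⟩ := by
  haveI := h.prime
  refine idx_eq (M := M) (map_eq_of_iff hα.1) (isPBlock_blkMap h.he) h.he ((idxMap_test α _ _).2 ?_) h.tst
  simp only [hα.2]
  exact h.tst

theorem loc_of_le (h : Can p M b Q θ) {R : Subgroup K} {f : Set (IrrCharacter (Ce R))}
    (hf : SubpairLE p M R f Q (root M Q θ)) : Can p M f (Q.subgroupOf (Ce R)) fun x => θ x := by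
  haveI := h.prime
  have hQ : R ≤ Q := SubpairLE.le hf
  have hDQ : Q ≤ Ce R := fun d hd => Subgroup.mem_centralizer_iff.2 fun q hq => h.comm q (hQ hq) d hd
  obtain ⟨k, k1, k2⟩ := exists_locIdx_eq h.hM h.hmax.1.1 hDQ hf
  refine (of_tst h.hM k1 (H644.isDefectGroup_of_isMaximalBrauerPair h.hM (isMaximal_local h.hM h.hmax hDQ hf k1))
    (fun d hd => (mem_Ce_sub hDQ d).2 (h.ab hd)) ?_ (fun d hd => h.triv d hd) fun g hg => ?_).1
  · rw [← locIdx_test, k2]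
    exact h.tst
  · exact h.zero _ fun h1 => hg ((mem_Ce_sub hDQ g).2 h1)

theorem stable (h : Can p M b Q θ) {η : K → ℂ} (hη : ∀ t ∈ In Q θ, ∀ v ∈ Q, η (t * v * t⁻¹) = η v) :
    IsStable p M ⟨Q, root M Q θ⟩ η := by
  haveI := h.prime
  intro u x c hu hc h1 h2
  obtain ⟨y, hy, hxy⟩ := (H645.FusCount.ctrl_of_abelian (a := ⟨Q, root M Q θ⟩) h.hM h.hmax h.comm).fus u x c hu hc h1 h2
  rw [hxy]
  exact hη y ((h.mem_In_iff y).2 ((conjIdx_eq_iff h.he y).1 hy)) u hu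

/-- a root over a root -/
structure Dt (p : ℕ) (M : Ideal AlgInt) (e : Emb ι) (b : Set (IrrCharacter K)) (Q : Subgroup K) (θ : K → ℂ)
    (B : Set (IrrCharacter W)) (P : Subgroup W) (Θ : W → ℂ) : Prop where
  hK : Can p M b Q θ
  hW : Can p M B P Θ
  hP : P = Q.map ι
  ov : OV ι (Ce P) θ Θ
  inv : ∀ w, e.au w ∈ Stab b

variable {e : Emb ι} {B : Set (IrrCharacter W)} {P : Subgroup W} {Θ : W → ℂ}

theorem Dt.conj (h : Dt p M e b Q θ B P Θ) (w : W) : Dt p M e b (Q.map (e.au w).toMonoidHom)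
    (fun y => θ ((e.au w).symm y)) B (P.map (MulAut.conj w).toMonoidHom) fun y => Θ ((MulAut.conj w).symm y) where
  hK := by
    have h1 := h.hK.map (e.au w)
    rwa [mem_Stab_iff.1 (h.inv w)] at h1
  hW := by
    have h1 := h.hW.map (MulAut.conj w)
    rwa [blkMap_conj] at h1
  hP := by
    rw [h.hP, Subgroup.map_map, Subgroup.map_map]
    congr 1
    exact MonoidHom.ext fun k => (e.au_spec w k).symm
  ov := by
    have h1 := h.ov.conj e (H' := Ce (P.map (MulAut.conj w).toMonoidHom)) w⁻¹ fun c hc => by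
      rw [inv_inv]
      exact (map_mem_centralizer_iff (MulAut.conj w) P c).2 hc
    simp only [map_inv, inv_inv] at h1
    exact h1
  inv := h.inv

theorem ce_iff (e : Emb ι) {R : Subgroup K} {R' : Subgroup W} (hR : R' = R.map ι) (k : K) :
    ι k ∈ Ce R' ↔ k ∈ Ce R := hR ▸ e.ce R k

theorem Dt.cov (h : Dt p M e b Q θ B P Θ) {R : Subgroup K} {R' : Subgroup W} (hR : R' = R.map ι)
    {f : Set (IrrCharacter (Ce R))} (hf : SubpairLE p M R f Q (root M Q θ)) {f' : Set (IrrCharacter (Ce R'))}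
    (hf' : SubpairLE p M R' f' P (root M P Θ)) : CovH (rs ι (ce_iff e hR)) f' f :=
  have a := loc_of_le h.hK hf
  have a' := loc_of_le h.hW hf'
  cover h.hK.hM (e.rs _) a.irr a.zero a.ind a'.irr a'.zero a'.ind
    (h.ov.loc _ (Subgroup.centralizer_le (SubpairLE.le hf')))

theorem Dt.key0 (h : Dt p M e b Q θ B P Θ) {R : Subgroup K} {R' : Subgroup W} (hR : R' = R.map ι)
    {f' : Set (IrrCharacter (Ce R'))} (hf' : SubpairLE p M R' f' P (root M P Θ)) {ζ' : IrrCharacter (Ce R')}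
    (hζ' : ζ' ∈ f') {ζ : IrrCharacter (Ce R)} (hζ : Ov (rs ι (ce_iff e hR)) (ζ' : Ce R' → ℂ) (ζ : Ce R → ℂ)) :
    ∃ c ∈ Ce R', LEIdx p M (idxMap (e.au c) ⟨R, blockOf M (ζ : Ce R → ℂ)⟩) ⟨Q, root M Q θ⟩ := by
  haveI := h.hK.prime
  letI := Fintype.ofFinite K
  have hRQ : R ≤ Q := by
    have h1 := SubpairLE.le hf'
    rwa [hR, h.hP, Subgroup.map_le_map_iff_of_injective e.inj] at h1
  obtain ⟨f, ⟨f1, f2⟩, -⟩ := S4655.result p M h.hK.hM Q R _ h.hK.hmax.1.1 hRQ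
  obtain ⟨c, ζ0, h1, h2⟩ := conj_of_covH h.hK.hM (e.rs _) (loc_of_le h.hW hf').hb f1 (h.cov hR f2 hf') hζ' hζ
  refine ⟨c, c.2, ?_⟩
  have h3 : ∀ r ∈ R, e.au c r = r := fun r hr => e.au_eq (by
    rw [← Subgroup.mem_centralizer_iff.1 c.2 (ι r) (hR ▸ Subgroup.mem_map_of_mem ι hr), mul_inv_cancel_right])
  rw [idx_eq (M := M) (a := idxMap (e.au c) ⟨R, blockOf M (ζ : Ce R → ℂ)⟩) (a' := ⟨R, f⟩) (map_eq_of_iff fun x =>
    ⟨fun hx => by rwa [(e.au c).injective (h3 _ hx)] at hx, fun hx => by rwa [h3 x hx]⟩)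
    (isPBlock_blkMap (Basic.isPBlock_blockOf ζ)) f1 (φ := extendByZero (Ce R) ζ0)
    ((idxMap_test _ _ _).2 ⟨ζ, Basic.mem_blockOf_self ζ, fun k => ?_⟩)
    ⟨ζ0, h1, fun k => Core.extendByZero_of_mem _ _ k.2⟩]
  · exact f2
  · rw [h2]
    change extendByZero _ _ (e.au c (k : K)) = _
    rw [e.au_eq (k := k) (k' := ((e.rs (ce_iff e hR)).au c k : Ce R))
      (congrArg Subtype.val ((e.rs (ce_iff e hR)).au_spec c k))]
    exact Core.extendByZero_of_mem _ _ (Subtype.prop _)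

/-- the inertia group of the upper root -/
theorem Dt.inl (h : Dt p M e b Q θ B P Θ) {w : W} (hw : w ∈ In P Θ) : ∃ c ∈ Ce P, e.au (w * c) ∈ LA Q θ := by
  haveI := h.hK.prime
  have h1 := h.conj w⁻¹
  have h2 : MulAut.conj w⁻¹ ∈ LA P Θ := inv_mem hw
  have h3 : (fun y => Θ ((MulAut.conj w⁻¹).symm y)) = Θ := funext fun y => by rw [← h2.2, MulEquiv.apply_symm_apply]
  rw [map_eq_of_iff h2.1, h3] at h1
  obtain ⟨ζ', h4, ζ, h5, h6⟩ := h.cov h.hP (f := root M Q θ) (f' := root M P Θ) Relation.ReflTransGen.refl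
    Relation.ReflTransGen.refl
  obtain ⟨c, hc, h7⟩ := h1.key0 h.hP Relation.ReflTransGen.refl h4 h6
  rw [← Basic.isPBlock_eq_blockOf h.hK.he h5] at h7
  have h8 : ∀ r ∈ Q, e.au c r = r := fun r hr => e.au_eq (by
    rw [← Subgroup.mem_centralizer_iff.1 hc (ι r) (h.hP ▸ Subgroup.mem_map_of_mem ι hr), mul_inv_cancel_right])
  have h9 : Q.map (e.au c).toMonoidHom = Q.map (e.au w⁻¹).toMonoidHom := by
    rw [Subgroup.map_injective e.inj (h1.hP.symm.trans h.hP)]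
    exact map_eq_of_iff fun x => ⟨fun hx => by rwa [(e.au c).injective (h8 _ hx)] at hx, fun hx => by rwa [h8 x hx]⟩
  obtain ⟨k1, k2⟩ := h.hK.of_idx h1.hK (idx_eq_of_le h.hK.hM h1.hK.hmax.1.1 h7 h9)
  have k3 : ∀ g, e.au (w * c) g = (e.au w⁻¹).symm (e.au c g) := fun g => by
    rw [map_mul, map_inv]
    rfl
  refine ⟨c, hc, fun x => ?_, fun g => by rw [k3, k2]⟩
  rw [k3, ← iff_of_map_eq k1 x, ← iff_of_map_eq (e := e.au w⁻¹) rfl, MulEquiv.apply_symm_apply]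

variable {η : K → ℂ} {η' : W → ℂ}

theorem Dt.st (h : Dt p M e b Q θ B P Θ) (h2 : ∀ w, e.au w ∈ LA Q θ → ∀ v ∈ Q, η (e.au w v) = η v) :
    IsStable p M ⟨Q, root M Q θ⟩ η := stable h.hK fun t ht v hv => by
  have h3 := h2 (ι t) (by rwa [e.au_self]) v hv
  rwa [e.au_self] at h3

theorem Dt.st' (h : Dt p M e b Q θ B P Θ) (h1 : ∀ v ∈ Q, η' (ι v) = η v)
    (h2 : ∀ w, e.au w ∈ LA Q θ → ∀ v ∈ Q, η (e.au w v) = η v) : IsStable p M ⟨P, root M P Θ⟩ η' :=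
  stable h.hW fun t ht y hy => by
    obtain ⟨c, hc, h3⟩ := h.inl ht
    have h4 := Subgroup.mem_centralizer_iff.1 hc y hy
    obtain ⟨v, hv, rfl⟩ : y ∈ Q.map ι := h.hP ▸ hy
    rw [h1 v hv, ← h2 _ h3 v hv, ← h1 _ ((h3.1 v).2 hv), e.au_spec, mul_assoc t c, ← h4]
    congr 1
    group

theorem Dt.key (h : Dt p M e b Q θ B P Θ) (h1 : ∀ v ∈ Q, η' (ι v) = η v)
    (h2 : ∀ w, e.au w ∈ LA Q θ → ∀ v ∈ Q, η (e.au w v) = η v) {u : K} {ζ' : IrrCharacter (Cz (ι u))}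
    (hζ' : IsBrauerPairOf p M B (Subgroup.zpowers (ι u)) (blockOf M (ζ' : Cz (ι u) → ℂ))) {ζ : IrrCharacter (Cz u)}
    (hζ : Ov (rs ι (ce_iff e (ι.map_zpowers u).symm)) (ζ' : Cz (ι u) → ℂ) (ζ : Cz u → ℂ)) :
    etaW p M ⟨Q, root M Q θ⟩ η u ⟨Subgroup.zpowers u, blockOf M (ζ : Cz u → ℂ)⟩ =
      etaW p M ⟨P, root M P Θ⟩ η' (ι u) ⟨Subgroup.zpowers (ι u), blockOf M (ζ' : Cz (ι u) → ℂ)⟩ := by
  haveI := h.hK.prime
  obtain ⟨x, hx⟩ := exists_conj_leIdx (a := ⟨P, root M P Θ⟩) h.hW.hM h.hW.hmax hζ'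
  have a1 : x * ι u * x⁻¹ ∈ P := hx.le ⟨ι u, Subgroup.mem_zpowers _, rfl⟩
  have a2 : e.au x u ∈ Q := by
    rwa [← e.au_spec, h.hP, Subgroup.mem_map_iff_mem e.inj] at a1
  rw [etaW_eq (h.st' h1 h2) rfl hx, ← e.au_spec, h1 _ a2]
  have a3 := (leIdx_idxMap_iff (MulAut.conj x⁻¹)).2 hx
  rw [idx_can h.hW] at a3
  change LEIdx p M (conjIdx x⁻¹ (conjIdx x _)) _ at a3
  rw [conjIdx_inv_conjIdx] at a3
  obtain ⟨c, hc, a4⟩ := (h.conj x⁻¹).key0 (ι.map_zpowers u).symm a3 (Basic.mem_blockOf_self ζ') hζ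
  rw [← idx_can h.hK] at a4
  obtain ⟨y, hy⟩ := h.hK.frat (h.inv (c⁻¹ * x⁻¹))
  have a5 := (leIdx_idxMap_iff (MulAut.conj y * e.au c⁻¹ : MulAut K)).2 a4
  have a6 : MulEquiv.trans (e.au x⁻¹) (MulAut.conj y * e.au c⁻¹ : MulAut K) = MulAut.conj y * e.au (c⁻¹ * x⁻¹) := by
    rw [map_mul, ← mul_assoc]
    rfl
  have a7 : MulEquiv.trans (e.au c) (MulAut.conj y * e.au c⁻¹ : MulAut K) = MulAut.conj y := by
    change (MulAut.conj y * e.au c⁻¹ * e.au c : MulAut K) = _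
    rw [map_inv, inv_mul_cancel_right]
  rw [idxMap_idxMap, idxMap_idxMap, a6, a7, idx_LA h.hK hy] at a5
  rw [etaW_eq (h.st h2) rfl a5]
  rw [← e.au_self, ← map_mul] at hy
  rw [← h2 _ hy _ a2]
  congr 1
  refine (e.au_eq ?_).symm
  have a8 := Subgroup.mem_centralizer_iff.1 hc (ι u) (Subgroup.mem_zpowers _)
  rw [e.au_spec, map_mul, map_mul, map_inv]
  calc ι y * ι u * (ι y)⁻¹ = ι y * (c⁻¹ * (c * ι u)) * (ι y)⁻¹ := by group
    _ = _ := by rw [← a8]; group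

theorem ws (hM : IsPModular p M) (j : K →* W) {F : W → ℂ} (hF : IsClassFunction W F)
    (good : Set (IrrCharacter W) → Prop) (ω : Set (IrrCharacter K) → ℂ) (ω' : Set (IrrCharacter W) → ℂ)
    (h0 : ∀ f, IsPBlock M f → ¬ good f → ∀ s : W, ¬ p ∣ orderOf s → blockPart f F s = 0)
    (h : ∀ (ζ' : IrrCharacter W) (ζ : IrrCharacter K), good (blockOf M (ζ' : W → ℂ)) → Ov j (ζ' : W → ℂ) (ζ : K → ℂ) →
      ω (blockOf M (ζ : K → ℂ)) = ω' (blockOf M (ζ' : W → ℂ))) {s : K} (hs : ¬ p ∣ orderOf s) :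
    wSum M ω' F (j s) = wSum M ω (fun k => F (j k)) s := by
  classical
  letI := Fintype.ofFinite K
  letI := Fintype.ofFinite W
  haveI := Core.finite_irr (G := W)
  letI := Fintype.ofFinite (IrrCharacter W)
  have hj : ∀ s : K, ¬ p ∣ orderOf s → ¬ p ∣ orderOf (j s) := fun s h1 h2 => h1 (h2.trans (orderOf_map_dvd j s))
  have hc : ∀ F : W → ℂ, IsClassFunction W F → IsClassFunction K fun k => F (j k) := fun F h1 g k => by
    simp only [map_mul, map_inv]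
    exact h1 _ _
  set i : Set (IrrCharacter W) → ℂ := fun f => if good f then 1 else 0 with hi
  have h1 : ∀ s : W, ¬ p ∣ orderOf s → F s = wSum M i F s := fun s h1 => by
    conv_lhs => rw [← wSum_one M hF]
    exact wSum_congr hM fun f hf => (em (good f)).imp (fun h2 => (if_pos h2).symm) fun h2 => h0 f hf h2 s h1
  rw [wSum_congr_reg hM hF (isClassFunction_wSum M i F) h1 ω' (hj s hs),
    wSum_congr_reg hM (hc F hF) (hc _ (isClassFunction_wSum M i F)) (fun s h2 => h1 _ (hj s h2)) ω hs, wSum_wSum]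
  refine congrFun (eq_of_classInner (hc _ (isClassFunction_wSum M _ F)) (isClassFunction_wSum M _ _) fun ζ => ?_) s
  have h2 : ∀ a : IrrCharacter W → ℂ, (fun k => (∑ ξ : IrrCharacter W, a ξ • (ξ : W → ℂ)) (j k)) =
      ∑ ξ : IrrCharacter W, a ξ • fun k => (ξ : W → ℂ) (j k) := fun a => funext fun k => by
    simp only [Finset.sum_apply, Pi.smul_apply]
  rw [classInner_wSum, wSum_eq, wSum_eq, h2, h2, Core.classInner_sum_left, Core.classInner_sum_left, Finset.mul_sum]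
  refine Finset.sum_congr rfl fun ζ' _ => ?_
  rw [Core.classInner_smul_left, Core.classInner_smul_left]
  by_cases h3 : good (blockOf M (ζ' : W → ℂ))
  · by_cases h4 : Ov j (ζ' : W → ℂ) (ζ : K → ℂ)
    · rw [h ζ' ζ h3 h4]
      ring
    · rw [ov_iff, not_not] at h4
      rw [h4]
      ring
  · simp only [hi, if_neg h3]
    ring

/-- **the star construction commutes with restriction** -/
theorem Dt.res (h : Dt p M e b Q θ B P Θ) (h1 : ∀ v ∈ Q, η' (ι v) = η v)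
    (h2 : ∀ w, e.au w ∈ LA Q θ → ∀ v ∈ Q, η (e.au w v) = η v) {ξ : IrrCharacter W} (hξ : ξ ∈ B) (g : K) :
    star p M ⟨P, root M P Θ⟩ η' (ξ : W → ℂ) (ι g) = star p M ⟨Q, root M Q θ⟩ η (fun k => (ξ : W → ℂ) (ι k)) g := by
  obtain ⟨u, hu, s, hs, rfl⟩ : ∃ u : K, (∃ k : ℕ, orderOf u = p ^ k) ∧ ∃ s : Cz u, ¬ p ∣ orderOf s ∧ u * (s : K) = g :=
    ⟨_, exists_pp_mul (p := p) g⟩
  have hu' : ∃ k : ℕ, orderOf (ι u) = p ^ k := by rwa [orderOf_injective ι e.inj]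
  have hc := Core.isIrr_isClassFunction ξ.2
  set j : Cz u →* Cz (ι u) := rs ι (ce_iff e (ι.map_zpowers u).symm) with hj
  have h4 := starW_apply h.hK.hM (etaW p M ⟨P, root M P Θ⟩ η') hc hu' (s := j s)
    fun h4 => hs (h4.trans (orderOf_map_dvd j s))
  rw [map_mul, H651.star, H651.star, starW_apply h.hK.hM _ (fun a k => by
    simp only [map_mul, map_inv]
    exact hc _ _) hu hs]
  refine h4.trans ((ws h.hK.hM j (isClassFunction_secFun hc _) (IsBrauerPairOf p M B (Subgroup.zpowers (ι u)))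
    (fun f => etaW p M ⟨Q, root M Q θ⟩ η u ⟨Subgroup.zpowers u, f⟩) _
    (fun f hf h5 s hs => blockPart_secFun_eq_zero h.hK.hM h.hW.hb hξ hu' hf h5 hs)
    (fun ζ' ζ h5 h6 => h.key h1 h2 h5 h6) hs).trans ?_)
  congr 1
  funext k
  simp only [secFun, map_mul]
  rfl

end Cfsg.Agent.BH.RZ.SA
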